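import Mathlib
import Cfsg.Agent.Characters.Central
import Cfsg.Agent.Characters.Core

/-!
# A positivity inequality for irreducible characters

For an irreducible character `χ` of the finite group `G`, a subgroup `W` of order `N` and `k : G`,
the number `∑_{w,v ∈ W} χ (k⁻¹ w k v)` is at most `N * ∑_{w ∈ W} χ (k⁻¹ w k w⁻¹)` (real parts).
-/

set_option autoImplicit false

namespace Cfsg.Agent.H267.PosDef

open Cfsg Cfsg.Agent.Characters Cfsg.Agent.Characters.Core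
open scoped ComplexConjugate

variable {G : Type*} [Group G] [Fintype G]

/-- `∑_g χ(g⁻¹ a) conj χ(g⁻¹ b) = |G|/χ(1) χ(b⁻¹ a)`. -/
theorem sum_mul_conj {χ : G → ℂ} (hχ : IsIrrCharacter G χ) (a b : G) :
    ∑ g : G, χ (g⁻¹ * a) * conj (χ (g⁻¹ * b)) = (Nat.card G : ℂ) * χ (b⁻¹ * a) / χ 1 := by
  rw [← Central.sum_char_mul_char_inv_mul hχ (b⁻¹ * a)]
  have hc := isIrr_isCharacter hχ
  refine Fintype.sum_equiv (Equiv.mulLeft b⁻¹) _ _ fun g => ?_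
  rw [← isCharacter_apply_inv hc, mul_comm]
  simp only [Equiv.coe_mulLeft, mul_inv_rev, inv_inv]
  congr 2
  group

/-- The norm of a combination of translates of `χ`. -/
theorem sum_norm_sq {χ : G → ℂ} (hχ : IsIrrCharacter G χ) {ι : Type*} [Fintype ι] (a : ι → G) :
    ((∑ g : G, ‖∑ i, χ (g⁻¹ * a i)‖ ^ 2 : ℝ) : ℂ) =
      (Nat.card G : ℂ) / χ 1 * ∑ i, ∑ j, χ ((a j)⁻¹ * a i) := by
  have h1 : ∀ g : G, ((‖∑ i, χ (g⁻¹ * a i)‖ ^ 2 : ℝ) : ℂ) =
      ∑ i, ∑ j, χ (g⁻¹ * a i) * conj (χ (g⁻¹ * a j)) := by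
    intro g
    rw [Complex.ofReal_pow, ← Complex.mul_conj', map_sum, Finset.sum_mul_sum]
  rw [Complex.ofReal_sum, Finset.sum_congr rfl fun g _ => h1 g, Finset.sum_comm, Finset.mul_sum]
  refine Finset.sum_congr rfl fun i _ => ?_
  rw [Finset.sum_comm, Finset.mul_sum]
  refine Finset.sum_congr rfl fun j _ => ?_
  rw [sum_mul_conj hχ]
  ring

/-- The key inequality, before evaluation of the sums. -/
theorem norm_le (χ : G → ℂ) (W : Subgroup G) [Fintype W] (k : G) :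
    ∑ g : G, ‖∑ q : W × W, χ (g⁻¹ * ((q.1 : G) * k * q.2))‖ ^ 2 ≤
      (Nat.card W : ℝ) ^ 2 * ∑ g : G, ‖∑ x : W, χ (g⁻¹ * ((x : G)⁻¹ * k * x))‖ ^ 2 := by
  set f : G → ℂ := fun g => ∑ x : W, χ (g⁻¹ * ((x : G)⁻¹ * k * x)) with hf
  have h1 : ∀ g : G, ∑ q : W × W, χ (g⁻¹ * ((q.1 : G) * k * q.2)) = ∑ z : W, f ((z : G)⁻¹ * g) := by
    intro g
    rw [Fintype.sum_prod_type_right, hf]
    rw [Finset.sum_comm (s := (Finset.univ : Finset W)) (t := (Finset.univ : Finset W))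
      (f := fun (z : W) (x : W) => χ (((z : G)⁻¹ * g)⁻¹ * ((x : G)⁻¹ * k * x)))]
    refine Finset.sum_congr rfl fun x _ => ?_
    refine Fintype.sum_equiv (Equiv.mulRight x) _ _ fun z => ?_
    rw [Equiv.coe_mulRight, Subgroup.coe_mul]
    congr 1
    group
  have h2 : ∀ g : G, ‖∑ z : W, f ((z : G)⁻¹ * g)‖ ^ 2 ≤
      (Nat.card W : ℝ) * ∑ z : W, ‖f ((z : G)⁻¹ * g)‖ ^ 2 := by
    intro g
    have h3 : ‖∑ z : W, f ((z : G)⁻¹ * g)‖ ≤ ∑ z : W, ‖f ((z : G)⁻¹ * g)‖ := norm_sum_le _ _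
    have h4 := sq_sum_le_card_mul_sum_sq (s := (Finset.univ : Finset W))
      (f := fun z => ‖f ((z : G)⁻¹ * g)‖)
    rw [Finset.card_univ, ← Nat.card_eq_fintype_card] at h4
    refine le_trans ?_ h4
    exact pow_le_pow_left₀ (norm_nonneg _) h3 2
  have h3 : ∀ z : W, ∑ g : G, ‖f ((z : G)⁻¹ * g)‖ ^ 2 = ∑ g : G, ‖f g‖ ^ 2 := by
    intro z
    exact Fintype.sum_equiv (Equiv.mulLeft ((z : G)⁻¹)) _ _ fun g => rfl
  calc ∑ g : G, ‖∑ q : W × W, χ (g⁻¹ * ((q.1 : G) * k * q.2))‖ ^ 2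
      = ∑ g : G, ‖∑ z : W, f ((z : G)⁻¹ * g)‖ ^ 2 := by
        refine Finset.sum_congr rfl fun g _ => by rw [h1]
    _ ≤ ∑ g : G, (Nat.card W : ℝ) * ∑ z : W, ‖f ((z : G)⁻¹ * g)‖ ^ 2 :=
        Finset.sum_le_sum fun g _ => h2 g
    _ = (Nat.card W : ℝ) * ∑ z : W, ∑ g : G, ‖f ((z : G)⁻¹ * g)‖ ^ 2 := by
        rw [← Finset.mul_sum, Finset.sum_comm]
    _ = (Nat.card W : ℝ) ^ 2 * ∑ g : G, ‖f g‖ ^ 2 := by
        rw [Finset.sum_congr rfl fun z _ => h3 z, Finset.sum_const, Finset.card_univ, nsmul_eq_mul,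
          ← Nat.card_eq_fintype_card]
        ring

/-- First evaluation. -/
theorem eval_left {χ : G → ℂ} (hχ : IsIrrCharacter G χ) (W : Subgroup G) [Fintype W] (k : G) :
    ∑ i : W × W, ∑ j : W × W, χ (((j.1 : G) * k * j.2)⁻¹ * ((i.1 : G) * k * i.2)) =
      (Nat.card W : ℂ) ^ 2 * ∑ w : W, ∑ v : W, χ (k⁻¹ * w * k * v) := by
  have hcl := isIrr_isClassFunction hχ
  rw [Finset.sum_comm]
  have h1 : ∀ j : W × W, ∑ i : W × W, χ (((j.1 : G) * k * j.2)⁻¹ * ((i.1 : G) * k * i.2)) =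
      ∑ w : W, ∑ v : W, χ (k⁻¹ * w * k * v) := by
    intro j
    rw [← Fintype.sum_prod_type' (f := fun (w : W) (v : W) => χ (k⁻¹ * w * k * v))]
    refine Fintype.sum_equiv ((Equiv.mulLeft (j.1⁻¹)).prodCongr (Equiv.mulRight (j.2⁻¹))) _ _
      fun i => ?_
    simp only [Equiv.prodCongr_apply, Equiv.coe_mulLeft, Equiv.coe_mulRight, Prod.map_fst,
      Prod.map_snd, Subgroup.coe_mul, Subgroup.coe_inv]
    rw [← hcl _ (j.2 : G)]
    congr 1
    group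
  rw [Finset.sum_congr rfl fun j _ => h1 j, Finset.sum_const, Finset.card_univ, nsmul_eq_mul,
    Fintype.card_prod, ← Nat.card_eq_fintype_card]
  push_cast
  ring

/-- Second evaluation. -/
theorem eval_right {χ : G → ℂ} (hχ : IsIrrCharacter G χ) (W : Subgroup G) [Fintype W] (k : G) :
    ∑ i : W, ∑ j : W, χ (((j : G)⁻¹ * k * j)⁻¹ * ((i : G)⁻¹ * k * i)) =
      (Nat.card W : ℂ) * ∑ w : W, χ (k⁻¹ * w * k * (w : G)⁻¹) := by
  have hcl := isIrr_isClassFunction hχ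
  have h1 : ∀ i : W, ∑ j : W, χ (((j : G)⁻¹ * k * j)⁻¹ * ((i : G)⁻¹ * k * i)) =
      ∑ w : W, χ (k⁻¹ * w * k * (w : G)⁻¹) := by
    intro i
    refine Fintype.sum_equiv (Equiv.mulRight (i⁻¹)) _ _ fun j => ?_
    simp only [Equiv.coe_mulRight, Subgroup.coe_mul, Subgroup.coe_inv]
    rw [← hcl _ (j : G)]
    congr 1
    group
  rw [Finset.sum_congr rfl fun j _ => h1 j, Finset.sum_const, Finset.card_univ, nsmul_eq_mul,
    ← Nat.card_eq_fintype_card]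

/-- **The positivity inequality.** -/
theorem re_le {χ : G → ℂ} (hχ : IsIrrCharacter G χ) (W : Subgroup G) [Fintype W] (k : G) :
    (∑ w : W, ∑ v : W, χ (k⁻¹ * w * k * v)).re ≤
      (Nat.card W : ℝ) * (∑ w : W, χ (k⁻¹ * w * k * (w : G)⁻¹)).re := by
  obtain ⟨d, hd0, hd⟩ := isIrr_apply_one hχ
  have h0 := norm_le χ W k
  have h1 := sum_norm_sq hχ (fun q : W × W => (q.1 : G) * k * q.2)
  have h2 := sum_norm_sq hχ (fun x : W => (x : G)⁻¹ * k * x)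
  rw [eval_left hχ W k] at h1
  rw [eval_right hχ W k] at h2
  rw [hd] at h1 h2
  have e1 := congrArg Complex.re h1
  have e2 := congrArg Complex.re h2
  rw [Complex.ofReal_re] at e1 e2
  rw [e1, e2] at h0
  have hW : (0 : ℝ) < Nat.card W := by exact_mod_cast Nat.card_pos
  have hG : (0 : ℝ) < Nat.card G := by exact_mod_cast Nat.card_pos
  have hd' : (0 : ℝ) < d := by exact_mod_cast hd0
  have c1 : ((Nat.card G : ℂ) / (d : ℂ) * ((Nat.card W : ℂ) ^ 2 *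
      ∑ w : W, ∑ v : W, χ (k⁻¹ * w * k * v))).re =
      (Nat.card G : ℝ) / d * (Nat.card W : ℝ) ^ 2 * (∑ w : W, ∑ v : W, χ (k⁻¹ * w * k * v)).re := by
    rw [← Complex.re_ofReal_mul]
    congr 1
    push_cast
    ring
  have c2 : ((Nat.card G : ℂ) / (d : ℂ) * ((Nat.card W : ℂ) *
      ∑ w : W, χ (k⁻¹ * w * k * (w : G)⁻¹))).re =
      (Nat.card G : ℝ) / d * (Nat.card W : ℝ) * (∑ w : W, χ (k⁻¹ * w * k * (w : G)⁻¹)).re := by
    rw [← Complex.re_ofReal_mul]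
    congr 1
    push_cast
    ring
  rw [c1, c2] at h0
  have hpos : (0 : ℝ) < (Nat.card G : ℝ) / d * (Nat.card W : ℝ) ^ 2 := by positivity
  refine le_of_mul_le_mul_left ?_ hpos
  refine h0.trans (le_of_eq ?_)
  ring

end Cfsg.Agent.H267.PosDef
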