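import Mathlib
import Cfsg.Agent.H267.PosDef
import Cfsg.Agent.Classification.RTwo.CoreKill
import Cfsg.Agent.Blocks.Basic

/-!
# Theorem A, part 1: one character

`W` is an abelian `p`-subgroup of `G`; every `g : G` is, up to a factor from a `p'`-subgroup `K` normalized by
`W` with `C_K(w) ≤ O_{p'}(C_G(w))` for `1 ≠ w ∈ W`, in the normalizer of `W`.
-/

set_option autoImplicit false

namespace Cfsg.Agent.H267.ThmA

open Cfsg Cfsg.Agent.Characters Cfsg.Agent.Characters.Core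
open scoped ComplexConjugate

/-- The hypothesis of Theorem A. -/
structure Hyp {G : Type*} [Group G] (p : ℕ) (W : Subgroup G) : Prop where
  ab : ∀ x ∈ W, ∀ y ∈ W, x * y = y * x
  isP : IsPGroup p W
  exK : ∀ g : G, ∃ K : Subgroup G, (Nat.card K).Coprime p ∧
    (∀ w ∈ W, ∀ x ∈ K, w * x * w⁻¹ ∈ K) ∧
    (∀ w ∈ W, w ≠ 1 → ∀ u ∈ K, w * u = u * w → u ∈ centralizerPPrimeCore p w) ∧
    ∃ k ∈ K, k * g ∈ Subgroup.normalizer (W : Set G)

variable {G : Type*} [Group G]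

/-- Elements of a `p'`-subgroup are `p`-regular. -/
theorem not_dvd_orderOf {p : ℕ} (hp : p.Prime) {K : Subgroup G} (hK : (Nat.card K).Coprime p) {x : G}
    (hx : x ∈ K) : ¬ p ∣ orderOf x := by
  intro h
  have h1 : orderOf x ∣ Nat.card K := by
    have h0 := orderOf_dvd_natCard (⟨x, hx⟩ : K)
    rwa [Subgroup.orderOf_mk] at h0
  exact (Nat.Prime.coprime_iff_not_dvd hp).1 hK.symm (h.trans h1)

/-- Nontrivial elements of a `p`-subgroup are `p`-singular. -/
theorem dvd_orderOf {p : ℕ} (hp : p.Prime) {W : Subgroup G} (hW : IsPGroup p W) {x : G}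
    (hx : x ∈ W) (hx1 : x ≠ 1) : p ∣ orderOf x := by
  have : Fact p.Prime := ⟨hp⟩
  obtain ⟨m, hm⟩ := (hW.exists_orderOf_eq_pow : ∀ g : W, _) ⟨x, hx⟩
  rw [Subgroup.orderOf_mk] at hm
  rcases Nat.eq_zero_or_pos m with h0 | h0
  · rw [h0, pow_zero] at hm
    exact absurd (orderOf_eq_one_iff.1 hm) hx1
  · rw [hm]
    exact dvd_pow_self p h0.ne'

theorem orderOf_pow {p : ℕ} (hp : p.Prime) {W : Subgroup G} (hW : IsPGroup p W) {x : G}
    (hx : x ∈ W) : ∃ k : ℕ, orderOf x = p ^ k := by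
  have : Fact p.Prime := ⟨hp⟩
  obtain ⟨m, hm⟩ := (hW.exists_orderOf_eq_pow : ∀ g : W, _) ⟨x, hx⟩
  rw [Subgroup.orderOf_mk] at hm
  exact ⟨m, hm⟩

theorem mem_normalizer_of_conj {W K : Subgroup G} (h : ∀ w ∈ W, ∀ x ∈ K, w * x * w⁻¹ ∈ K) {w : G}
    (hw : w ∈ W) : w ∈ Subgroup.normalizer (K : Set G) := by
  rw [Subgroup.mem_normalizer_iff]
  intro x
  constructor
  · exact fun hx => h w hw x hx
  · intro hx
    have := h w⁻¹ (W.inv_mem hw) _ hx
    simpa [mul_assoc] using this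

variable [Finite G] {p : ℕ} [Fact p.Prime]

/-- The sum of the values over the nontrivial elements of `W`. -/
noncomputable def T (W : Subgroup G) [Fintype W] (χ : G → ℂ) : ℂ := ∑ w : W, χ w - χ 1

/-- The double sum. -/
noncomputable def S (W : Subgroup G) [Fintype W] (χ : G → ℂ) (g : G) : ℂ :=
  ∑ w : W, ∑ v : W, χ (g⁻¹ * w * g * v)

open Classical in
/-- Values `χ (k⁻¹ w k v)`, `k ∈ K`. -/
theorem val {W : Subgroup G} {M : Ideal AlgInt} (hM : IsPModular p M) (hWp : IsPGroup p W)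
    (hab : ∀ x ∈ W, ∀ y ∈ W, x * y = y * x)
    {K : Subgroup G} (hK : (Nat.card K).Coprime p) (hWK : ∀ w ∈ W, ∀ x ∈ K, w * x * w⁻¹ ∈ K)
    (hbal : ∀ w ∈ W, w ≠ 1 → ∀ u ∈ K, w * u = u * w → u ∈ centralizerPPrimeCore p w)
    {χ : IrrCharacter G} (hχ : χ ∈ principalBlock M G) {k : G} (hk : k ∈ K) {w v : G} (hw : w ∈ W)
    (hv : v ∈ W) (hwv : w * v ≠ 1) : (χ : G → ℂ) (k⁻¹ * w * k * v) = (χ : G → ℂ) (w * v) := by
  have hp : p.Prime := Fact.out
  have hwvW : w * v ∈ W := W.mul_mem hw hv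
  have h1 : k⁻¹ * w * k * v = (w * v) * (v⁻¹ * (w⁻¹ * k⁻¹ * w * k) * v) := by group
  have h2 : w⁻¹ * k⁻¹ * w * k ∈ K := by
    have := hWK w⁻¹ (W.inv_mem hw) k⁻¹ (K.inv_mem hk)
    rw [inv_inv] at this
    exact K.mul_mem this hk
  have h3 : v⁻¹ * (w⁻¹ * k⁻¹ * w * k) * v ∈ K := by
    have := hWK v⁻¹ (W.inv_mem hv) _ h2
    rwa [inv_inv] at this
  rw [h1]
  exact Classification.RTwo.CoreKill.apply_mul hM hK (orderOf_pow hp hWp hwvW)
    (mem_normalizer_of_conj hWK hwvW) (hbal _ hwvW hwv) hχ h3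

/-- The key evaluation. -/
theorem key {W : Subgroup G} [Fintype W] (h : Hyp p W) {M : Ideal AlgInt} (hM : IsPModular p M) (g : G) :
    ∃ u : W → G, (∀ w, ¬ p ∣ orderOf (u w)) ∧ ∀ χ ∈ principalBlock M G,
      S W (χ : G → ℂ) g = (Nat.card W : ℂ) * T W (χ : G → ℂ) + ∑ w : W, (χ : G → ℂ) (u w) ∧
      (S W (χ : G → ℂ) g).re ≤ (Nat.card W : ℝ) * (∑ w : W, (χ : G → ℂ) (u w)).re := by
  classical
  have := Fintype.ofFinite G
  have hp : p.Prime := Fact.out
  obtain ⟨K, hK, hWK, hbal, k, hk, hkg⟩ := h.exK g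
  have hKu : ∀ w ∈ W, k * w * k⁻¹ * w⁻¹ ∈ K := by
    intro w hw
    have h1 := hWK w hw k⁻¹ (K.inv_mem hk)
    have h2 : k * w * k⁻¹ * w⁻¹ = k * (w * k⁻¹ * w⁻¹) := by group
    rw [h2]
    exact K.mul_mem hk h1
  refine ⟨fun w => k * w * k⁻¹ * (w : G)⁻¹, fun w => not_dvd_orderOf hp hK (hKu w w.2), ?_⟩
  intro χ hχ
  have hcl := isIrr_isClassFunction χ.2
  -- reduction to `k`
  have hS : S W (χ : G → ℂ) g = ∑ w : W, ∑ v : W, (χ : G → ℂ) (k * w * k⁻¹ * v) := by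
    unfold S
    refine Finset.sum_congr rfl fun w _ => ?_
    have hn : ∀ v : W, (k * g) * v * (k * g)⁻¹ ∈ W := fun v =>
      (Subgroup.mem_normalizer_iff.1 hkg v).1 v.2
    have hn' : ∀ v : W, (k * g)⁻¹ * v * (k * g) ∈ W := by
      intro v
      have := (Subgroup.mem_normalizer_iff.1 (inv_mem hkg) v).1 v.2
      rwa [inv_inv] at this
    refine Fintype.sum_equiv
      { toFun := fun v => ⟨_, hn v⟩
        invFun := fun v => ⟨_, hn' v⟩
        left_inv := fun v => Subtype.ext (by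
          show (k * g)⁻¹ * ((k * g) * v * (k * g)⁻¹) * (k * g) = v
          group)
        right_inv := fun v => Subtype.ext (by
          show (k * g) * ((k * g)⁻¹ * v * (k * g)) * (k * g)⁻¹ = v
          group) } _ _ fun v => ?_
    show (χ : G → ℂ) (g⁻¹ * w * g * v) = (χ : G → ℂ) (k * w * k⁻¹ * ((k * g) * v * (k * g)⁻¹))
    rw [← hcl _ (k * g)]
    congr 1
    group
  have hpos := PosDef.re_le χ.2 W k⁻¹
  simp only [inv_inv] at hpos
  constructor
  · rw [hS]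
    have h1 : ∀ w : W, ∑ v : W, (χ : G → ℂ) (k * w * k⁻¹ * v) =
        T W (χ : G → ℂ) + (χ : G → ℂ) (k * w * k⁻¹ * (w : G)⁻¹) := by
      intro w
      have h2 : ∀ v : W, (χ : G → ℂ) (k * w * k⁻¹ * v) = (χ : G → ℂ) ((w * v : W) : G) +
          (if v = w⁻¹ then (χ : G → ℂ) (k * w * k⁻¹ * (w : G)⁻¹) - (χ : G → ℂ) 1 else 0) := by
        intro v
        by_cases hv : v = w⁻¹
        · rw [if_pos hv, hv]
          simp
        · rw [if_neg hv, add_zero]
          have hwv : (w : G) * v ≠ 1 := by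
            intro h3
            apply hv
            apply Subtype.ext
            rw [Subgroup.coe_inv]
            exact eq_inv_of_mul_eq_one_right h3
          have h4 := val hM h.isP h.ab hK hWK hbal hχ (K.inv_mem hk) w.2 v.2 hwv
          rw [inv_inv] at h4
          rw [h4, Subgroup.coe_mul]
      rw [Finset.sum_congr rfl fun v _ => h2 v, Finset.sum_add_distrib, Finset.sum_ite_eq',
        if_pos (Finset.mem_univ _)]
      have h3 : ∑ v : W, (χ : G → ℂ) ((w * v : W) : G) = ∑ v : W, (χ : G → ℂ) v :=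
        Fintype.sum_equiv (Equiv.mulLeft w) _ _ fun v => rfl
      rw [h3]
      unfold T
      ring
    rw [Finset.sum_congr rfl fun w _ => h1 w, Finset.sum_add_distrib, Finset.sum_const,
      Finset.card_univ, nsmul_eq_mul, ← Nat.card_eq_fintype_card]
  · rw [hS]
    exact hpos

/-- `T` is real: an integer. -/
theorem T_eq (W : Subgroup G) [Fintype W] {χ : G → ℂ} (hχ : IsCharacter G χ) :
    ∃ t : ℝ, T W χ = (t : ℂ) := by
  obtain ⟨n, hn⟩ := Classification.RTwo.CoreKill.exists_sum_eq hχ W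
  obtain ⟨d, hd⟩ := isCharacter_apply_one hχ
  refine ⟨(Nat.card W : ℝ) * n - d, ?_⟩
  unfold T
  rw [hn, hd]
  push_cast
  ring

theorem T_ofReal (W : Subgroup G) [Fintype W] {χ : G → ℂ} (hχ : IsCharacter G χ) :
    T W χ = ((T W χ).re : ℂ) := by
  obtain ⟨t, ht⟩ := T_eq W hχ
  rw [ht, Complex.ofReal_re]

/-- The average of `S`. -/
theorem sum_S [Fintype G] (W : Subgroup G) [Fintype W] {χ : G → ℂ} (hχ : IsIrrCharacter G χ) :
    ∑ g : G, S W χ g = (Nat.card G : ℂ) * (T W χ + χ 1) ^ 2 / χ 1 := by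
  unfold S T
  rw [Finset.sum_comm]
  have h1 : ∀ w : W, ∑ g : G, ∑ v : W, χ (g⁻¹ * w * g * v) =
      ∑ v : W, (Nat.card G : ℂ) * χ w * χ v / χ 1 := by
    intro w
    rw [Finset.sum_comm]
    refine Finset.sum_congr rfl fun v _ => ?_
    rw [← Central.sum_char_conj_mul hχ]
    refine Fintype.sum_equiv (Equiv.inv G) _ _ fun g => ?_
    simp
  rw [Finset.sum_congr rfl fun w _ => h1 w]
  have h2 : ∀ w : W, ∑ v : W, (Nat.card G : ℂ) * χ w * χ v / χ 1 =
      (Nat.card G : ℂ) / χ 1 * (∑ v : W, χ v) * χ w := by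
    intro w
    rw [Finset.mul_sum, Finset.sum_mul]
    refine Finset.sum_congr rfl fun v _ => by ring
  rw [Finset.sum_congr rfl fun w _ => h2 w, ← Finset.mul_sum]
  ring

/-- The inequality `(N - 1) (T + d)² ≥ N² T d`. -/
theorem ineq {W : Subgroup G} [Fintype W] (h : Hyp p W) {M : Ideal AlgInt} (hM : IsPModular p M)
    {χ : IrrCharacter G} (hχ : χ ∈ principalBlock M G) {d : ℕ} (hd : (χ : G → ℂ) 1 = d) :
    (Nat.card W : ℝ) ^ 2 * (T W (χ : G → ℂ)).re * d ≤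
      ((Nat.card W : ℝ) - 1) * ((T W (χ : G → ℂ)).re + d) ^ 2 := by
  classical
  have := Fintype.ofFinite G
  have hch := isIrr_isCharacter χ.2
  obtain ⟨t, ht⟩ := T_eq W hch
  obtain ⟨d', hd0, hd'⟩ := isIrr_apply_one χ.2
  have hdd : d' = d := by
    have : (d' : ℂ) = d := by rw [← hd', hd]
    exact_mod_cast this
  subst hdd
  rw [ht, Complex.ofReal_re]
  have hN : (1 : ℝ) ≤ Nat.card W := by exact_mod_cast Nat.card_pos
  have h1 : ∀ g : G, (Nat.card W : ℝ) ^ 2 * t ≤ ((Nat.card W : ℝ) - 1) * (S W (χ : G → ℂ) g).re := by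
    intro g
    obtain ⟨u, -, hu⟩ := key h hM g
    obtain ⟨e1, e2⟩ := hu χ hχ
    have e3 := congrArg Complex.re e1
    rw [ht, Complex.add_re, ← Complex.ofReal_natCast, ← Complex.ofReal_mul, Complex.ofReal_re] at e3
    nlinarith
  have h2 : ∑ g : G, (Nat.card W : ℝ) ^ 2 * t ≤
      ∑ g : G, ((Nat.card W : ℝ) - 1) * (S W (χ : G → ℂ) g).re := Finset.sum_le_sum fun g _ => h1 g
  rw [Finset.sum_const, Finset.card_univ, nsmul_eq_mul, ← Nat.card_eq_fintype_card,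
    ← Finset.mul_sum, ← Complex.re_sum, sum_S W χ.2, ht, hd] at h2
  have h3 : ((Nat.card G : ℂ) * ((t : ℂ) + (d' : ℂ)) ^ 2 / (d' : ℂ)).re =
      (Nat.card G : ℝ) * (t + d') ^ 2 / d' := by
    rw [← Complex.ofReal_re ((Nat.card G : ℝ) * (t + d') ^ 2 / d')]
    congr 1
    push_cast
    ring
  rw [h3] at h2
  have hG : (0 : ℝ) < Nat.card G := by exact_mod_cast Nat.card_pos
  have hd1 : (0 : ℝ) < d' := by exact_mod_cast hd0
  have h4 : (Nat.card G : ℝ) * ((Nat.card W : ℝ) ^ 2 * t * d') ≤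
      (Nat.card G : ℝ) * (((Nat.card W : ℝ) - 1) * (t + d') ^ 2) := by
    have := mul_le_mul_of_nonneg_right h2 hd1.le
    have h5 : ((Nat.card W : ℝ) - 1) * ((Nat.card G : ℝ) * (t + d') ^ 2 / d') * d' =
        (Nat.card G : ℝ) * (((Nat.card W : ℝ) - 1) * (t + d') ^ 2) := by
      field_simp
    rw [h5] at this
    linarith
  exact le_of_mul_le_mul_left h4 hG

end Cfsg.Agent.H267.ThmA
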