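import Mathlib
import Cfsg.Agent.H267.ThmA1
import Cfsg.Agent.S0907
import Cfsg.Agent.S0925
import Cfsg.Agent.S0947

/-!
# Theorem A, part 2: the sums over the principal block, and no fusion in `W`
-/

set_option autoImplicit false

namespace Cfsg.Agent.H267.ThmA

open Cfsg Cfsg.Agent.Characters Cfsg.Agent.Characters.Core
open scoped ComplexConjugate

/-- The purely numerical contradiction. -/
theorem numeric {ι : Type*} (s : Finset ι) (t d : ι → ℝ) (N : ℝ) (hN : 3 ≤ N)
    (hd : ∀ i ∈ s, 0 < d i) (h1 : ∀ i ∈ s, (N - 1) * t i ≤ d i)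
    (h2 : ∑ i ∈ s, d i * t i = -(N - 1))
    (h3 : ∑ i ∈ s, (t i ^ 3 / d i - (N - 2) * t i ^ 2) = -(N - 1) ^ 2)
    (h4 : N * (N + 1) - (N - 1) ^ 2 ≤ ∑ i ∈ s, t i ^ 2) : False := by
  have hN1 : 0 < N - 1 := by linarith
  have hle : ∀ i ∈ s, t i ^ 3 / d i ≤ t i ^ 2 / (N - 1) := by
    intro i hi
    have hdi := hd i hi
    rw [div_le_div_iff₀ hdi hN1]
    have := h1 i hi
    have h5 : 0 ≤ t i ^ 2 := sq_nonneg _
    nlinarith [mul_le_mul_of_nonneg_left this h5]
  have hneg : ∃ i ∈ s, t i < 0 := by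
    by_contra hcon
    push Not at hcon
    have : 0 ≤ ∑ i ∈ s, d i * t i :=
      Finset.sum_nonneg fun i hi => mul_nonneg (hd i hi).le (hcon i hi)
    rw [h2] at this
    linarith
  have hlt : ∑ i ∈ s, t i ^ 3 / d i < ∑ i ∈ s, t i ^ 2 / (N - 1) := by
    apply Finset.sum_lt_sum hle
    obtain ⟨i, hi, hti⟩ := hneg
    refine ⟨i, hi, ?_⟩
    have hdi := hd i hi
    have h5 : t i ^ 3 / d i < 0 := by
      apply div_neg_of_neg_of_pos _ hdi
      have : t i ^ 3 = t i * t i ^ 2 := by ring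
      rw [this]
      have h50 : t i ≠ 0 := hti.ne
      exact mul_neg_of_neg_of_pos hti (by positivity)
    have h6 : 0 < t i ^ 2 / (N - 1) := by
      apply div_pos _ hN1
      have : t i ≠ 0 := hti.ne
      positivity
    linarith
  rw [← Finset.sum_div] at hlt
  rw [Finset.sum_sub_distrib, ← Finset.mul_sum] at h3
  set A := ∑ i ∈ s, t i ^ 2 with hA
  set C := ∑ i ∈ s, t i ^ 3 / d i with hC
  have h5 : C * (N - 1) < A := by
    rwa [lt_div_iff₀ hN1] at hlt
  have h6 : C = (N - 2) * A - (N - 1) ^ 2 := by linarith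
  rw [h6] at h5
  have h7 : A * ((N - 2) * (N - 1) - 1) < (N - 1) ^ 3 := by nlinarith
  have h8 : 0 < (N - 2) * (N - 1) - 1 := by nlinarith
  have h9 := mul_le_mul_of_nonneg_right h4 h8.le
  have h10 : (N * (N + 1) - (N - 1) ^ 2) * ((N - 2) * (N - 1) - 1) - (N - 1) ^ 3 =
      N * (2 * N - 1) * (N - 3) := by ring
  have h11 : 0 ≤ N * (2 * N - 1) * (N - 3) := by
    have : 0 ≤ N := by linarith
    have : 0 ≤ 2 * N - 1 := by linarith
    have : 0 ≤ N - 3 := by linarith
    positivity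
  linarith

variable {G : Type*} [Group G] [Finite G] {p : ℕ} [Fact p.Prime]

/-- The finset of the characters in the principal block. -/
noncomputable def blk (M : Ideal AlgInt) (G : Type*) [Group G] [Finite G] : Finset (IrrCharacter G) :=
  haveI : Finite (IrrCharacter G) := finite_irr
  (Set.toFinite (principalBlock M G)).toFinset

theorem mem_blk {M : Ideal AlgInt} {χ : IrrCharacter G} : χ ∈ blk M G ↔ χ ∈ principalBlock M G := by
  unfold blk
  rw [Set.Finite.mem_toFinset]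

theorem finsum_blk {α : Type*} [AddCommMonoid α] (M : Ideal AlgInt) (f : IrrCharacter G → α) :
    ∑ᶠ χ ∈ principalBlock M G, f χ = ∑ χ ∈ blk M G, f χ := by
  haveI : Finite (IrrCharacter G) := finite_irr
  rw [finsum_mem_eq_finite_toFinset_sum _ (Set.toFinite (principalBlock M G))]
  rfl

/-- The principal character. -/
noncomputable def one (G : Type*) [Group G] : IrrCharacter G :=
  ⟨fun _ => 1, Blocks.Basic.isIrrCharacter_one⟩

theorem one_mem_blk {M : Ideal AlgInt} (hM : IsPModular p M) : one G ∈ blk M G := by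
  have hMp : M.IsPrime := Blocks.Local.isPrime_of_isPModular hM
  rw [mem_blk]
  exact Blocks.Basic.sameBlock_refl _

theorem isPBlock_principal (M : Ideal AlgInt) : IsPBlock M (principalBlock M G) := ⟨one G, rfl⟩

theorem orth {M : Ideal AlgInt} (hM : IsPModular p M) {x y : G} (hx : ¬ p ∣ orderOf x)
    (hy : p ∣ orderOf y) : ∑ χ ∈ blk M G, (χ : G → ℂ) x * conj ((χ : G → ℂ) y) = 0 := by
  rw [← finsum_blk M fun χ : IrrCharacter G => (χ : G → ℂ) x * conj ((χ : G → ℂ) y)]
  exact S0907.result p M hM _ (isPBlock_principal M) x y hx hy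

theorem one_not_dvd (hp : p.Prime) : ¬ p ∣ orderOf (1 : G) := by
  rw [orderOf_one]
  intro h
  exact hp.one_lt.ne' (Nat.dvd_one.1 h)

open Classical in
/-- `T` as a sum over the nontrivial elements. -/
theorem T_eq_sum (W : Subgroup G) [Fintype W] (χ : G → ℂ) :
    T W χ = ∑ w ∈ (Finset.univ : Finset W).erase 1, χ w := by
  unfold T
  rw [← Finset.add_sum_erase Finset.univ _ (Finset.mem_univ (1 : W)), Subgroup.coe_one,
    add_sub_cancel_left]

theorem conj_T (W : Subgroup G) [Fintype W] {χ : G → ℂ} (hχ : IsCharacter G χ) :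
    conj (T W χ) = T W χ := by
  obtain ⟨t, ht⟩ := T_eq W hχ
  rw [ht, Complex.conj_ofReal]

/-- `∑ χ(x) T(χ) = 0` for `p`-regular `x`. -/
theorem sum_mul_T {W : Subgroup G} [Fintype W] (hW : IsPGroup p W) {M : Ideal AlgInt}
    (hM : IsPModular p M) {x : G} (hx : ¬ p ∣ orderOf x) :
    ∑ χ ∈ blk M G, (χ : G → ℂ) x * T W (χ : G → ℂ) = 0 := by
  classical
  have hp : p.Prime := Fact.out
  have h1 : ∀ χ ∈ blk M G, (χ : G → ℂ) x * T W (χ : G → ℂ) =
      ∑ w ∈ (Finset.univ : Finset W).erase 1, (χ : G → ℂ) x * conj ((χ : G → ℂ) w) := by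
    intro χ _
    rw [← conj_T W (isIrr_isCharacter χ.2), T_eq_sum, map_sum, Finset.mul_sum]
  rw [Finset.sum_congr rfl h1, Finset.sum_comm]
  refine Finset.sum_eq_zero fun w hw => orth hM hx ?_
  exact dvd_orderOf hp hW w.2 fun h => (Finset.mem_erase.1 hw).1 (Subtype.ext h)

theorem sum_S_mul_T {W : Subgroup G} [Fintype W] (h : Hyp p W) {M : Ideal AlgInt}
    (hM : IsPModular p M) (g : G) :
    ∑ χ ∈ blk M G, (S W (χ : G → ℂ) g - (Nat.card W : ℂ) * T W (χ : G → ℂ)) * T W (χ : G → ℂ) = 0 := by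
  obtain ⟨u, hu, hu2⟩ := key h hM g
  have h1 : ∀ χ ∈ blk M G,
      (S W (χ : G → ℂ) g - (Nat.card W : ℂ) * T W (χ : G → ℂ)) * T W (χ : G → ℂ) =
      ∑ w : W, (χ : G → ℂ) (u w) * T W (χ : G → ℂ) := by
    intro χ hχ
    rw [(hu2 χ (mem_blk.1 hχ)).1, add_sub_cancel_left, Finset.sum_mul]
  rw [Finset.sum_congr rfl h1, Finset.sum_comm]
  exact Finset.sum_eq_zero fun w _ => sum_mul_T h.isP hM (hu w)

/-- The cubic relation. -/
theorem cubic {W : Subgroup G} [Fintype W] (h : Hyp p W) {M : Ideal AlgInt}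
    (hM : IsPModular p M) :
    ∑ χ ∈ blk M G, (T W (χ : G → ℂ) ^ 3 / (χ : G → ℂ) 1 -
      ((Nat.card W : ℂ) - 2) * T W (χ : G → ℂ) ^ 2) = 0 := by
  classical
  have := Fintype.ofFinite G
  have hp : p.Prime := Fact.out
  have h1 : ∑ g : G, ∑ χ ∈ blk M G,
      (S W (χ : G → ℂ) g - (Nat.card W : ℂ) * T W (χ : G → ℂ)) * T W (χ : G → ℂ) = 0 :=
    Finset.sum_eq_zero fun g _ => sum_S_mul_T h hM g
  rw [Finset.sum_comm] at h1
  have hG : (Nat.card G : ℂ) ≠ 0 := card_ne_zero_complex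
  have h2 : ∀ χ ∈ blk M G, ∑ g : G,
      (S W (χ : G → ℂ) g - (Nat.card W : ℂ) * T W (χ : G → ℂ)) * T W (χ : G → ℂ) =
      (Nat.card G : ℂ) * ((T W (χ : G → ℂ) ^ 3 / (χ : G → ℂ) 1 -
      ((Nat.card W : ℂ) - 2) * T W (χ : G → ℂ) ^ 2) + (χ : G → ℂ) 1 * T W (χ : G → ℂ)) := by
    intro χ _
    have hd := isIrr_apply_one_ne_zero χ.2
    rw [← Finset.sum_mul, Finset.sum_sub_distrib, sum_S W χ.2, Finset.sum_const, Finset.card_univ,
      nsmul_eq_mul, ← Nat.card_eq_fintype_card]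
    field_simp
    ring
  rw [Finset.sum_congr rfl h2, ← Finset.mul_sum, Finset.sum_add_distrib,
    sum_mul_T h.isP hM (one_not_dvd hp), add_zero] at h1
  exact (mul_eq_zero.1 h1).resolve_left hG

/-- The norm of the principal block at `x` is at least `|W|`. -/
theorem norm_ge {W : Subgroup G} [Fintype W] (h : Hyp p W) {M : Ideal AlgInt}
    (hM : IsPModular p M) {x : G} (hx : x ∈ W) (hx1 : x ≠ 1) :
    (Nat.card W : ℝ) ≤ ∑ χ ∈ blk M G, ‖(χ : G → ℂ) x‖ ^ 2 := by
  classical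
  have hp : p.Prime := Fact.out
  set C : Subgroup G := Subgroup.centralizer ({x} : Set G) with hC
  have h1 := (S0947.result p M hM x (orderOf_pow hp h.isP hx) hx1 1 (by
    rw [orderOf_one]; intro h; exact hp.one_lt.ne' (Nat.dvd_one.1 h))).1
  rw [finsum_blk M fun ζ : IrrCharacter G => ‖(ζ : G → ℂ) (x * ((1 : C) : G))‖ ^ 2,
    finsum_blk M fun ζ : IrrCharacter C => ‖(ζ : C → ℂ) (1 : C)‖ ^ 2] at h1
  rw [Subgroup.coe_one, mul_one] at h1
  rw [h1]
  -- `W` in the centralizer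
  have hWC : W ≤ C := by
    intro w hw
    rw [hC, Subgroup.mem_centralizer_singleton_iff]
    exact h.ab w hw x hx
  set W' : Subgroup C := W.subgroupOf C with hW'
  have : Fintype W' := Fintype.ofFinite _
  have hcard : Nat.card W' = Nat.card W := Nat.card_congr (Subgroup.subgroupOfEquivOfLe hWC).toEquiv
  have hW'p : IsPGroup p W' := h.isP.of_equiv (Subgroup.subgroupOfEquivOfLe hWC).symm
  -- the sum is `N * ∑ χ(1) n_χ`
  have h2 : ∀ χ : IrrCharacter C, ∃ n d : ℕ, T W' (χ : C → ℂ) = (Nat.card W' : ℂ) * n - d ∧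
      (χ : C → ℂ) 1 = d := by
    intro χ
    obtain ⟨n, hn⟩ := Classification.RTwo.CoreKill.exists_sum_eq (isIrr_isCharacter χ.2) W'
    obtain ⟨d, hd⟩ := isCharacter_apply_one (isIrr_isCharacter χ.2)
    refine ⟨n, d, ?_, hd⟩
    unfold T
    rw [hn, hd]
  choose n d hn hd using h2
  have h3 := sum_mul_T hW'p hM (one_not_dvd (G := C) hp)
  have h4 : ∑ χ ∈ blk M C, ((d χ : ℂ) * d χ) = (Nat.card W' : ℂ) * ∑ χ ∈ blk M C, (d χ : ℂ) * n χ := by
    have h5 : ∀ χ ∈ blk M C, (χ : C → ℂ) 1 * T W' (χ : C → ℂ) =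
        (Nat.card W' : ℂ) * ((d χ : ℂ) * n χ) - d χ * d χ := by
      intro χ _
      rw [hn, hd]
      ring
    rw [Finset.sum_congr rfl h5, Finset.sum_sub_distrib, ← Finset.mul_sum] at h3
    linear_combination -h3
  have h5 : ∑ χ ∈ blk M C, (d χ * d χ) = Nat.card W' * ∑ χ ∈ blk M C, d χ * n χ := by
    exact_mod_cast h4
  have h6 : ∑ χ ∈ blk M C, ‖(χ : C → ℂ) 1‖ ^ 2 = ((∑ χ ∈ blk M C, (d χ * d χ) : ℕ) : ℝ) := by
    push_cast
    refine Finset.sum_congr rfl fun χ _ => ?_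
    rw [hd, Complex.norm_natCast]
    ring
  rw [h6, h5, ← hcard]
  have h7 : 1 ≤ ∑ χ ∈ blk M C, d χ * n χ := by
    have h8 : d (one C) * n (one C) ≤ ∑ χ ∈ blk M C, d χ * n χ :=
      Finset.single_le_sum (f := fun χ => d χ * n χ) (fun _ _ => Nat.zero_le _) (one_mem_blk hM)
    have h9 : d (one C) = 1 := by
      have := hd (one C)
      have h10 : ((one C : IrrCharacter C) : C → ℂ) 1 = 1 := rfl
      rw [h10] at this
      exact_mod_cast this.symm
    have h10 : n (one C) = 1 := by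
      have h11 := hn (one C)
      have h12 : T W' ((one C : IrrCharacter C) : C → ℂ) = (Nat.card W' : ℂ) - 1 := by
        unfold T
        show ∑ w : W', (1 : ℂ) - 1 = _
        rw [Finset.sum_const, Finset.card_univ, nsmul_eq_mul, ← Nat.card_eq_fintype_card, mul_one]
      rw [h12, h9] at h11
      have h13 : (Nat.card W' : ℂ) * 1 = (Nat.card W' : ℂ) * n (one C) := by
        push_cast at h11
        linear_combination h11
      have h14 := mul_left_cancel₀ card_ne_zero_complex h13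
      exact_mod_cast h14.symm
    rw [h9, h10] at h8
    exact h8
  have h8 : Nat.card W' * 1 ≤ Nat.card W' * ∑ χ ∈ blk M C, d χ * n χ := Nat.mul_le_mul_left _ h7
  rw [mul_one] at h8
  exact_mod_cast h8

/-- The cross sums at two elements of `W`. -/
theorem cross_nonneg {W : Subgroup G} [Fintype W] (h : Hyp p W) {M : Ideal AlgInt}
    (hM : IsPModular p M) {x y : G} (hx : x ∈ W) (hy : y ∈ W) :
    0 ≤ (∑ χ ∈ blk M G, (χ : G → ℂ) x * conj ((χ : G → ℂ) y)).re := by
  have hp : p.Prime := Fact.out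
  by_cases hc : IsConj x y
  · have h1 : ∑ χ ∈ blk M G, (χ : G → ℂ) x * conj ((χ : G → ℂ) y) =
        ((∑ χ ∈ blk M G, ‖(χ : G → ℂ) x‖ ^ 2 : ℝ) : ℂ) := by
      push_cast
      refine Finset.sum_congr rfl fun χ _ => ?_
      rw [← Blocks.Basic.irr_isConj χ.2 hc, Complex.mul_conj']
    rw [h1, Complex.ofReal_re]
    positivity
  · have h1 := (S0925.result (G := G) p M hM).2 x y x y
      ⟨1, mul_one _, Commute.one_right _, orderOf_pow hp h.isP hx, one_not_dvd hp⟩
      ⟨1, mul_one _, Commute.one_right _, orderOf_pow hp h.isP hy, one_not_dvd hp⟩ hc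
      (principalBlock M G) (isPBlock_principal M)
    rw [finsum_blk M fun χ : IrrCharacter G => (χ : G → ℂ) x * (χ : G → ℂ) y⁻¹] at h1
    have h2 : ∑ χ ∈ blk M G, (χ : G → ℂ) x * conj ((χ : G → ℂ) y) = 0 := by
      rw [← h1]
      refine Finset.sum_congr rfl fun χ _ => ?_
      rw [isCharacter_apply_inv (isIrr_isCharacter χ.2)]
    rw [h2, Complex.zero_re]

theorem cross_ge {W : Subgroup G} [Fintype W] (h : Hyp p W) {M : Ideal AlgInt}
    (hM : IsPModular p M) {x y : G} (hx : x ∈ W) (hx1 : x ≠ 1) (hc : IsConj x y) :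
    (Nat.card W : ℝ) ≤ (∑ χ ∈ blk M G, (χ : G → ℂ) x * conj ((χ : G → ℂ) y)).re := by
  have h1 : ∑ χ ∈ blk M G, (χ : G → ℂ) x * conj ((χ : G → ℂ) y) =
      ((∑ χ ∈ blk M G, ‖(χ : G → ℂ) x‖ ^ 2 : ℝ) : ℂ) := by
    push_cast
    refine Finset.sum_congr rfl fun χ _ => ?_
    rw [← Blocks.Basic.irr_isConj χ.2 hc, Complex.mul_conj']
  rw [h1, Complex.ofReal_re]
  exact norm_ge h hM hx hx1

/-- If two elements of `W` are fused then the sum of the squares of `T` is large. -/
theorem sum_sq_ge {W : Subgroup G} [Fintype W] (h : Hyp p W) {M : Ideal AlgInt}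
    (hM : IsPModular p M) {x y : G} (hx : x ∈ W) (hy : y ∈ W) (hx1 : x ≠ 1) (hxy : x ≠ y)
    (hc : IsConj x y) :
    (Nat.card W : ℝ) * ((Nat.card W : ℝ) + 1) ≤ ∑ χ ∈ blk M G, (T W (χ : G → ℂ)).re ^ 2 := by
  classical
  have hp : p.Prime := Fact.out
  have hy1 : y ≠ 1 := by
    rintro rfl
    exact hx1 ((isConj_one_left.1 hc))
  set E : Finset W := (Finset.univ : Finset W).erase 1 with hE
  set b : W → W → ℝ := fun x y => (∑ χ ∈ blk M G, (χ : G → ℂ) x * conj ((χ : G → ℂ) y)).re with hb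
  have h1 : ∑ χ ∈ blk M G, (T W (χ : G → ℂ)).re ^ 2 = ∑ u ∈ E, ∑ v ∈ E, b u v := by
    have h2 : ∀ χ ∈ blk M G, (T W (χ : G → ℂ)).re ^ 2 =
        (∑ u ∈ E, ∑ v ∈ E, (χ : G → ℂ) u * conj ((χ : G → ℂ) v)).re := by
      intro χ _
      have h3 : ((T W (χ : G → ℂ)).re ^ 2) = (T W (χ : G → ℂ) * conj (T W (χ : G → ℂ))).re := by
        rw [T_ofReal W (isIrr_isCharacter χ.2), Complex.conj_ofReal, ← Complex.ofReal_mul,
          Complex.ofReal_re, Complex.ofReal_re]
        ring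
      rw [h3, T_eq_sum, map_sum, Finset.sum_mul_sum]
    rw [Finset.sum_congr rfl h2, ← Complex.re_sum, Finset.sum_comm, Complex.re_sum]
    refine Finset.sum_congr rfl fun u _ => ?_
    rw [Finset.sum_comm, Complex.re_sum]
  rw [h1]
  set x' : W := ⟨x, hx⟩ with hx'
  set y' : W := ⟨y, hy⟩ with hy'
  have hne : x' ≠ y' := fun h => hxy (congrArg Subtype.val h)
  have hx'E : x' ∈ E := Finset.mem_erase.2 ⟨fun h => hx1 (congrArg Subtype.val h), Finset.mem_univ _⟩
  have hy'E : y' ∈ E := Finset.mem_erase.2 ⟨fun h => hy1 (congrArg Subtype.val h), Finset.mem_univ _⟩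
  have hne1 : ∀ u ∈ E, (u : G) ≠ 1 := fun u hu h => (Finset.mem_erase.1 hu).1 (Subtype.ext h)
  have hdiag : ∀ u ∈ E, (Nat.card W : ℝ) ≤ b u u := fun u hu =>
    cross_ge h hM u.2 (hne1 u hu) (IsConj.refl _)
  have hnn : ∀ u v : W, 0 ≤ b u v := fun u v => cross_nonneg h hM u.2 v.2
  have hrow : ∀ u ∈ E, (Nat.card W : ℝ) + (if u = x' ∨ u = y' then (Nat.card W : ℝ) else 0) ≤
      ∑ v ∈ E, b u v := by
    intro u hu
    by_cases hu2 : u = x' ∨ u = y'
    · rw [if_pos hu2]
      rcases hu2 with rfl | rfl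
      · have h2 : b x' x' + b x' y' ≤ ∑ v ∈ E, b x' v := by
          rw [← Finset.add_sum_erase E _ hx'E]
          refine add_le_add le_rfl ?_
          exact Finset.single_le_sum (f := fun v => b x' v) (fun v _ => hnn _ _)
            (Finset.mem_erase.2 ⟨hne.symm, hy'E⟩)
        have h3 := hdiag x' hx'E
        have h4 : (Nat.card W : ℝ) ≤ b x' y' := cross_ge h hM hx hx1 hc
        linarith
      · have h2 : b y' y' + b y' x' ≤ ∑ v ∈ E, b y' v := by
          rw [← Finset.add_sum_erase E _ hy'E]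
          refine add_le_add le_rfl ?_
          exact Finset.single_le_sum (f := fun v => b y' v) (fun v _ => hnn _ _)
            (Finset.mem_erase.2 ⟨hne, hx'E⟩)
        have h3 := hdiag y' hy'E
        have h4 : (Nat.card W : ℝ) ≤ b y' x' := cross_ge h hM hy hy1 hc.symm
        linarith
    · rw [if_neg hu2, add_zero]
      exact (hdiag u hu).trans
        (Finset.single_le_sum (f := fun v => b u v) (fun v _ => hnn _ _) hu)
  refine le_trans (le_of_eq ?_) (Finset.sum_le_sum hrow)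
  have hcardE : (E.card : ℝ) = (Nat.card W : ℝ) - 1 := by
    rw [hE, Finset.card_erase_of_mem (Finset.mem_univ _), Finset.card_univ,
      ← Nat.card_eq_fintype_card, Nat.cast_sub Nat.card_pos, Nat.cast_one]
  rw [Finset.sum_add_distrib, Finset.sum_const, nsmul_eq_mul, hcardE, ← Finset.sum_filter,
    Finset.sum_const, nsmul_eq_mul]
  have hf : Finset.filter (fun u => u = x' ∨ u = y') E = {x', y'} := by
    ext u
    simp only [Finset.mem_filter, Finset.mem_insert, Finset.mem_singleton]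
    constructor
    · exact fun h => h.2
    · rintro (rfl | rfl)
      · exact ⟨hx'E, Or.inl rfl⟩
      · exact ⟨hy'E, Or.inr rfl⟩
  rw [hf, Finset.card_pair hne]
  push_cast
  ring

/-- If an irreducible character takes its degree as value on `W` then it is principal, when the normal
closure of `W` is `G`. -/
theorem eq_one_of_const {W : Subgroup G} (hcl : Subgroup.normalClosure (W : Set G) = ⊤)
    {χ : IrrCharacter G} (hc : ∀ w ∈ W, (χ : G → ℂ) w = (χ : G → ℂ) 1) : χ = one G := by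
  have : Fintype G := Fintype.ofFinite G
  obtain ⟨χ, hχ⟩ := χ
  simp only at hc
  apply Subtype.ext
  show χ = fun _ => 1
  obtain ⟨n, ρ, hρ, rfl⟩ := hχ
  have h1 : ρ.character 1 = (Module.finrank ℂ (Fin n → ℂ) : ℂ) := by
    rw [Representation.char_one]
  have hWker : W ≤ MonoidHom.ker ρ := by
    intro w hw
    have h2 := hc w hw
    rw [h1, Values.character_eq_finrank_iff] at h2
    rw [MonoidHom.mem_ker, h2]
    rfl
  have hK : MonoidHom.ker ρ = ⊤ := by
    rw [eq_top_iff, ← hcl]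
    exact Subgroup.normalClosure_le_normal hWker
  have htriv : ∀ g : G, ρ.character g = ρ.character 1 := by
    intro g
    have hg : g ∈ MonoidHom.ker ρ := by rw [hK]; trivial
    rw [MonoidHom.mem_ker] at hg
    rw [h1, Values.character_eq_finrank_iff, hg]
    rfl
  by_contra hne
  have hirr : IsIrrCharacter G ρ.character := ⟨n, ρ, hρ, rfl⟩
  have h2 := classInner_irr_ne hirr isIrr_one hne
  rw [classInner_def] at h2
  have h3 : ∑ g : G, ρ.character g * conj ((1 : G → ℂ) g) = (Nat.card G : ℂ) * ρ.character 1 := by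
    rw [Finset.sum_congr rfl (fun g _ => by rw [htriv g, Pi.one_apply, map_one, mul_one])]
    rw [Finset.sum_const, Finset.card_univ, Fintype.card_eq_nat_card, nsmul_eq_mul]
  rw [h3] at h2
  have h4 : (Nat.card G : ℂ) ≠ 0 := by exact_mod_cast Nat.card_pos.ne'
  rw [inv_mul_cancel_left₀ h4] at h2
  exact isIrr_apply_one_ne_zero hirr h2

theorem norm_apply_le {χ : G → ℂ} (hχ : IsCharacter G χ) {d : ℕ} (hd : χ 1 = d) (g : G) :
    ‖χ g‖ ≤ d := by
  obtain ⟨n, ρ, hρ⟩ := hχ
  rw [← hρ] at hd ⊢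
  rw [Representation.char_one] at hd
  have h5 : (Module.finrank ℂ (Fin n → ℂ) : ℝ) = d := by exact_mod_cast hd
  rw [← h5]
  exact Values.norm_character_le ρ g

/-- `T < (N - 1) d` for nonprincipal characters. -/
theorem T_lt {W : Subgroup G} [Fintype W] (hcl : Subgroup.normalClosure (W : Set G) = ⊤)
    {χ : IrrCharacter G} (hne : χ ≠ one G) {d : ℕ} (hd : (χ : G → ℂ) 1 = d) :
    (T W (χ : G → ℂ)).re < ((Nat.card W : ℝ) - 1) * d := by
  classical
  by_contra hcon
  push Not at hcon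
  apply hne
  apply eq_one_of_const hcl
  have hle : ∀ w : W, ((χ : G → ℂ) w).re ≤ d := fun w =>
    (Complex.re_le_norm _).trans (norm_apply_le (isIrr_isCharacter χ.2) hd _)
  rw [T_eq_sum, Complex.re_sum] at hcon
  set E : Finset W := (Finset.univ : Finset W).erase 1 with hE
  have hcardE : (E.card : ℝ) = (Nat.card W : ℝ) - 1 := by
    rw [hE, Finset.card_erase_of_mem (Finset.mem_univ _), Finset.card_univ,
      ← Nat.card_eq_fintype_card, Nat.cast_sub Nat.card_pos, Nat.cast_one]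
  have hsum : ∑ w ∈ E, (d : ℝ) = ((Nat.card W : ℝ) - 1) * d := by
    rw [Finset.sum_const, nsmul_eq_mul, hcardE]
  rw [← hsum] at hcon
  have heq : ∀ w ∈ E, ((χ : G → ℂ) w).re = d := by
    have h1 : ∑ w ∈ E, ((χ : G → ℂ) w).re = ∑ w ∈ E, (d : ℝ) :=
      le_antisymm (Finset.sum_le_sum fun w _ => hle w) hcon
    exact (Finset.sum_eq_sum_iff_of_le fun w _ => hle w).1 h1
  intro w hw
  by_cases hw1 : w = 1
  · rw [hw1]
  · have h1 : ((χ : G → ℂ) w).re = d := heq ⟨w, hw⟩ (Finset.mem_erase.2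
      ⟨fun h => hw1 (congrArg Subtype.val h), Finset.mem_univ _⟩)
    have h2 : ‖(χ : G → ℂ) w‖ ≤ d := norm_apply_le (isIrr_isCharacter χ.2) hd _
    rw [hd]
    apply Complex.ext
    · rw [h1, Complex.natCast_re]
    · rw [Complex.natCast_im]
      have h3 : ‖(χ : G → ℂ) w‖ ^ 2 = ((χ : G → ℂ) w).re ^ 2 + ((χ : G → ℂ) w).im ^ 2 := by
        rw [← Complex.normSq_eq_norm_sq, Complex.normSq_apply]
        ring
      have h4 : ‖(χ : G → ℂ) w‖ ^ 2 ≤ (d : ℝ) ^ 2 := pow_le_pow_left₀ (norm_nonneg _) h2 2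
      rw [h3, h1] at h4
      have h5 : ((χ : G → ℂ) w).im ^ 2 = 0 := le_antisymm (by linarith) (sq_nonneg _)
      exact pow_eq_zero_iff (two_ne_zero) |>.1 h5

/-- `(N - 1) T ≤ d` for nonprincipal characters of the principal block. -/
theorem T_le {W : Subgroup G} [Fintype W] (h : Hyp p W) {M : Ideal AlgInt} (hM : IsPModular p M)
    (hcl : Subgroup.normalClosure (W : Set G) = ⊤)
    {χ : IrrCharacter G} (hχ : χ ∈ blk M G) (hne : χ ≠ one G) {d : ℕ} (hd : (χ : G → ℂ) 1 = d) :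
    ((Nat.card W : ℝ) - 1) * (T W (χ : G → ℂ)).re ≤ d := by
  have h1 := ineq h hM (mem_blk.1 hχ) hd
  have h2 := T_lt hcl hne hd
  set t := (T W (χ : G → ℂ)).re with ht
  have h3 : 0 ≤ (t - ((Nat.card W : ℝ) - 1) * d) * (((Nat.card W : ℝ) - 1) * t - d) := by
    nlinarith
  by_contra hcon
  push Not at hcon
  have h4 : (t - ((Nat.card W : ℝ) - 1) * d) * (((Nat.card W : ℝ) - 1) * t - d) < 0 :=
    mul_neg_of_neg_of_pos (by linarith) (by linarith)
  linarith

/-- **No fusion in `W`.** -/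
theorem no_fusion {W : Subgroup G} (h : Hyp p W) {M : Ideal AlgInt} (hM : IsPModular p M)
    (hcl : Subgroup.normalClosure (W : Set G) = ⊤) (hN : 3 ≤ Nat.card W)
    {x y : G} (hx : x ∈ W) (hy : y ∈ W) (hc : IsConj x y) : x = y := by
  classical
  have hp : p.Prime := Fact.out
  have := Fintype.ofFinite W
  by_contra hxy
  have hx1 : x ≠ 1 := by
    rintro rfl
    exact hxy (isConj_one_right.1 hc).symm
  have hdeg : ∀ χ : IrrCharacter G, ∃ d : ℕ, 0 < d ∧ (χ : G → ℂ) 1 = d := fun χ => isIrr_apply_one χ.2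
  choose d hd0 hd using hdeg
  have h1 := sum_sq_ge h hM hx hy hx1 hxy hc
  have h2 := sum_mul_T h.isP hM (one_not_dvd (G := G) hp)
  have h3 := cubic h hM
  have hT1 : T W ((one G : IrrCharacter G) : G → ℂ) = (Nat.card W : ℂ) - 1 := by
    unfold T
    show ∑ w : W, (1 : ℂ) - 1 = _
    rw [Finset.sum_const, Finset.card_univ, nsmul_eq_mul, ← Nat.card_eq_fintype_card, mul_one]
  have hT1r : (T W ((one G : IrrCharacter G) : G → ℂ)).re = (Nat.card W : ℝ) - 1 := by
    rw [hT1]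
    simp
  have hd1 : d (one G) = 1 := by
    have := hd (one G)
    have h10 : ((one G : IrrCharacter G) : G → ℂ) 1 = 1 := rfl
    rw [h10] at this
    exact_mod_cast this.symm
  have h2r : ∑ χ ∈ blk M G, (d χ : ℝ) * (T W (χ : G → ℂ)).re = 0 := by
    have h4 := congrArg Complex.re h2
    rw [Complex.re_sum, Complex.zero_re] at h4
    rw [← h4]
    refine Finset.sum_congr rfl fun χ _ => ?_
    rw [hd, ← Complex.ofReal_natCast, Complex.re_ofReal_mul]
  have h3r : ∑ χ ∈ blk M G, ((T W (χ : G → ℂ)).re ^ 3 / (d χ : ℝ) -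
      ((Nat.card W : ℝ) - 2) * (T W (χ : G → ℂ)).re ^ 2) = 0 := by
    have h4 := congrArg Complex.re h3
    rw [Complex.re_sum, Complex.zero_re] at h4
    rw [← h4]
    refine Finset.sum_congr rfl fun χ _ => ?_
    conv_rhs => rw [hd, T_ofReal W (isIrr_isCharacter χ.2)]
    rw [← Complex.ofReal_re ((T W (χ : G → ℂ)).re ^ 3 / (d χ : ℝ) -
      ((Nat.card W : ℝ) - 2) * (T W (χ : G → ℂ)).re ^ 2)]
    congr 1
    push_cast
    ring
  have hone := one_mem_blk (G := G) hM
  rw [← Finset.add_sum_erase _ _ hone, hT1r, hd1] at h2r h3r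
  rw [← Finset.add_sum_erase _ _ hone, hT1r] at h1
  refine numeric ((blk M G).erase (one G)) (fun χ => (T W (χ : G → ℂ)).re) (fun χ => (d χ : ℝ))
    (Nat.card W : ℝ) (by exact_mod_cast hN) (fun χ _ => by exact_mod_cast hd0 χ)
    (fun χ hχ => T_le h hM hcl (Finset.mem_of_mem_erase hχ) (Finset.ne_of_mem_erase hχ) (hd χ))
    ?_ ?_ ?_
  · push_cast at h2r
    linarith
  · push_cast at h3r
    linarith
  · linarith

end Cfsg.Agent.H267.ThmA
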