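import Mathlib
import Cfsg.Agent.H267.ThmA2
import Cfsg.Agent.S0943
import Cfsg.Agent.S0938
import Cfsg.Agent.Blocks.ExistsModular
import Cfsg.Agent.Lib.Cores

/-!
# Theorem A

Let `W` be an abelian `p`-subgroup of the finite group `G`, `|W| ≥ 3`, whose normal closure is `G`.  Suppose that
for every `g : G` there is a `p'`-subgroup `K` normalized by `W`, with `C_K(w) ≤ O_{p'}(C_G(w))` for
`1 ≠ w ∈ W`, and some `k ∈ K` with `k g ∈ N_G(W)`.  Then `W` is central modulo `O_{p'}(G)`.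
In particular `G` is not a nonabelian simple group.
-/

set_option autoImplicit false

namespace Cfsg.Agent.H267.ThmA

open Cfsg Cfsg.Agent.Characters Cfsg.Agent.Characters.Core
open scoped ComplexConjugate

variable {G : Type*} [Group G] [Finite G] {p : ℕ} [Fact p.Prime]

/-- Multiplicativity of the characters in the principal block on `W`. -/
theorem mult {W : Subgroup G} (h : Hyp p W) {M : Ideal AlgInt} (hM : IsPModular p M)
    (hnf : ∀ x ∈ W, ∀ y ∈ W, IsConj x y → x = y) {χ : IrrCharacter G}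
    (hχ : χ ∈ principalBlock M G) {x y : G} (hx : x ∈ W) (hy : y ∈ W) (hxy : x * y ≠ 1) :
    (χ : G → ℂ) x * (χ : G → ℂ) y = (χ : G → ℂ) 1 * (χ : G → ℂ) (x * y) := by
  apply S0943.result
  intro x' y' hx' hy'
  obtain ⟨a, rfl⟩ := isConj_iff.1 hx'
  obtain ⟨b, rfl⟩ := isConj_iff.1 hy'
  obtain ⟨K, hK, hWK, hbal, k, hk, hkg⟩ := h.exK (a⁻¹ * b)
  set n : G := k * (a⁻¹ * b) with hn
  have h1 : n * y * n⁻¹ ∈ W := (Subgroup.mem_normalizer_iff.1 hkg y).1 hy
  have h2 : n * y * n⁻¹ = y := (hnf y hy _ h1 (isConj_iff.2 ⟨n, rfl⟩)).symm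
  have h3 : a⁻¹ * b = k⁻¹ * n := by rw [hn, inv_mul_cancel_left]
  have h4 : a * x * a⁻¹ * (b * y * b⁻¹) = a * (x * ((a⁻¹ * b) * y * (a⁻¹ * b)⁻¹)) * a⁻¹ := by group
  have h5 : (a⁻¹ * b) * y * (a⁻¹ * b)⁻¹ = k⁻¹ * y * k := by
    rw [h3]
    have : k⁻¹ * n * y * (k⁻¹ * n)⁻¹ = k⁻¹ * (n * y * n⁻¹) * k := by group
    rw [this, h2]
  rw [h4, Blocks.Basic.irr_conj χ.2, h5, Blocks.Basic.irr_mul_comm χ.2 x]
  rw [val hM h.isP h.ab hK hWK hbal hχ hk hy hx (by rw [h.ab y hy x hx]; exact hxy)]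
  rw [h.ab y hy x hx]

/-- A Sylow subgroup containing `W` centralizes `W`. -/
theorem not_dvd_index {W : Subgroup G} (h : Hyp p W)
    (hnf : ∀ x ∈ W, ∀ y ∈ W, IsConj x y → x = y) {w : G} (hw : w ∈ W) :
    ¬ p ∣ (Subgroup.centralizer ({w} : Set G)).index := by
  have hp : p.Prime := Fact.out
  obtain ⟨P, hP⟩ := h.isP.exists_le_sylow
  have hle : (P : Subgroup G) ≤ Subgroup.centralizer ({w} : Set G) := by
    intro g hg
    rw [Subgroup.mem_centralizer_singleton_iff]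
    obtain ⟨K, hK, hWK, hbal, k, hk, hkg⟩ := h.exK g
    set n : G := k * g with hn
    have h1 : n * w * n⁻¹ ∈ W := (Subgroup.mem_normalizer_iff.1 hkg w).1 hw
    have h2 : n * w * n⁻¹ = w := (hnf w hw _ h1 (isConj_iff.2 ⟨n, rfl⟩)).symm
    have h3 : g = k⁻¹ * n := by rw [hn, inv_mul_cancel_left]
    have h4 : g * w * g⁻¹ = k⁻¹ * w * k := by
      rw [h3]
      have : k⁻¹ * n * w * (k⁻¹ * n)⁻¹ = k⁻¹ * (n * w * n⁻¹) * k := by group
      rw [this, h2]
    have h5 : w⁻¹ * (g * w * g⁻¹) ∈ K := by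
      rw [h4]
      have h6 := hWK w⁻¹ (W.inv_mem hw) k⁻¹ (K.inv_mem hk)
      rw [inv_inv] at h6
      have h7 : w⁻¹ * (k⁻¹ * w * k) = w⁻¹ * k⁻¹ * w * k := by group
      rw [h7]
      exact K.mul_mem h6 hk
    have h6 : w⁻¹ * (g * w * g⁻¹) ∈ (P : Subgroup G) :=
      mul_mem (inv_mem (hP hw)) (mul_mem (mul_mem hg (hP hw)) (inv_mem hg))
    have h7 : w⁻¹ * (g * w * g⁻¹) = 1 := by
      by_contra hne
      exact not_dvd_orderOf hp hK h5 (dvd_orderOf hp P.isPGroup' h6 hne)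
    have h8 : g * w * g⁻¹ = w := (inv_mul_eq_one.1 h7).symm
    exact mul_inv_eq_iff_eq_mul.1 h8
  intro hdvd
  exact P.not_dvd_index (hdvd.trans (Subgroup.index_dvd_of_le hle))

/-- The characters in the principal block do not vanish on `W`. -/
theorem apply_ne_zero {W : Subgroup G} (h : Hyp p W) {M : Ideal AlgInt} (hM : IsPModular p M)
    (hnf : ∀ x ∈ W, ∀ y ∈ W, IsConj x y → x = y) {χ : IrrCharacter G}
    (hχ : χ ∈ principalBlock M G) {w : G} (hw : w ∈ W) : (χ : G → ℂ) w ≠ 0 := by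
  intro h0
  have h1 := hχ w
  simp only [Blocks.Basic.centralChar_def, h0, mul_zero, zero_div, sub_zero, mul_one, div_one] at h1
  rw [Blocks.Local.memLocalIdeal_natCast_iff hM] at h1
  exact not_dvd_index h hnf hw h1

/-- The absolute values on `W` are the degree. -/
theorem norm_eq {W : Subgroup G} (h : Hyp p W) {M : Ideal AlgInt} (hM : IsPModular p M)
    (hnf : ∀ x ∈ W, ∀ y ∈ W, IsConj x y → x = y) (hN : 3 ≤ Nat.card W) {χ : IrrCharacter G}
    (hχ : χ ∈ principalBlock M G) {d : ℕ} (hd : (χ : G → ℂ) 1 = d) {x : G} (hx : x ∈ W) :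
    ‖(χ : G → ℂ) x‖ = d := by
  classical
  -- choose `y`
  obtain ⟨y, hy, hy1, hyx⟩ : ∃ y ∈ W, y ≠ 1 ∧ y ≠ x⁻¹ := by
    by_contra hcon
    push Not at hcon
    have := Fintype.ofFinite W
    have h1 : (Finset.univ : Finset W) ⊆ {1, ⟨x⁻¹, W.inv_mem hx⟩} := by
      intro y _
      rw [Finset.mem_insert, Finset.mem_singleton]
      by_cases hy1 : (y : G) = 1
      · exact Or.inl (Subtype.ext hy1)
      · exact Or.inr (Subtype.ext (hcon y y.2 hy1))
    have h2 := Finset.card_le_card h1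
    rw [Finset.card_univ, ← Nat.card_eq_fintype_card] at h2
    have h3 := Finset.card_le_two (a := (1 : W)) (b := ⟨x⁻¹, W.inv_mem hx⟩)
    omega
  have hxy1 : x * y ≠ 1 := fun h' => hyx (eq_inv_of_mul_eq_one_right h')
  have e1 := mult h hM hnf hχ hx hy hxy1
  have e2 := mult h hM hnf hχ (W.inv_mem hx) (W.mul_mem hx hy) (by rwa [inv_mul_cancel_left])
  rw [inv_mul_cancel_left] at e2
  have hy0 := apply_ne_zero h hM hnf hχ hy
  rw [isCharacter_apply_inv (isIrr_isCharacter χ.2)] at e2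
  have e3 : conj ((χ : G → ℂ) x) * (χ : G → ℂ) x = (d : ℂ) * d := by
    rw [hd] at e1 e2
    have h1 : (conj ((χ : G → ℂ) x) * (χ : G → ℂ) x - (d : ℂ) * d) * (χ : G → ℂ) y = 0 := by
      linear_combination (conj ((χ : G → ℂ) x)) * e1 + (d : ℂ) * e2
    rcases mul_eq_zero.1 h1 with h2 | h2
    · exact sub_eq_zero.1 h2
    · exact absurd h2 hy0
  rw [mul_comm, Complex.mul_conj'] at e3
  have e4 : ‖(χ : G → ℂ) x‖ ^ 2 = (d : ℝ) ^ 2 := by
    rw [pow_two (d : ℝ)]
    exact_mod_cast e3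
  exact (pow_left_inj₀ (norm_nonneg _) (Nat.cast_nonneg d) two_ne_zero).1 e4

/-- **Theorem A.** -/
theorem thmA {W : Subgroup G} (h : Hyp p W) (hcl : Subgroup.normalClosure (W : Set G) = ⊤)
    (hN : 3 ≤ Nat.card W) {w : G} (hw : w ∈ W) (g : G) : w * g * w⁻¹ * g⁻¹ ∈ pPrimeCore p G := by
  have hp : p.Prime := Fact.out
  obtain ⟨M, hM⟩ := Blocks.ExistsModular.exists_isPModular hp
  have hnf : ∀ x ∈ W, ∀ y ∈ W, IsConj x y → x = y := fun x hx y hy hc =>
    no_fusion h hM hcl hN hx hy hc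
  obtain ⟨K, hKn, hK, hKp, -, -⟩ := S0938.result p M hM (principalBlock M G) (isPBlock_principal M)
    (one G) (mem_blk.1 (one_mem_blk hM))
  have hle : K ≤ pPrimeCore p G :=
    Lib.Cores.le_pPrimeCore hKn ((Nat.Prime.coprime_iff_not_dvd hp).2 hKp).symm
  apply hle
  rw [← SetLike.mem_coe, hK]
  intro χ hχ
  obtain ⟨d, -, hd⟩ := isIrr_apply_one χ.2
  have h1 := norm_eq h hM hnf hN hχ hd hw
  obtain ⟨χ, n, ρ, hρ, rfl⟩ := χ
  simp only at h1 hd ⊢
  have h2 : ρ.character 1 = (Module.finrank ℂ (Fin n → ℂ) : ℂ) := by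
    rw [Representation.char_one]
  have h3 : (d : ℝ) = (Module.finrank ℂ (Fin n → ℂ) : ℝ) := by
    have : (d : ℂ) = (Module.finrank ℂ (Fin n → ℂ) : ℂ) := by rw [← hd, h2]
    exact_mod_cast this
  rw [h3] at h1
  obtain ⟨z, hz⟩ := (Values.norm_character_eq_iff ρ w).1 h1
  have h4 : w * g = (w * g * w⁻¹ * g⁻¹) * (g * w) := by group
  have h5 : ρ (w * g * w⁻¹ * g⁻¹) * ρ (g * w) = ρ (g * w) := by
    rw [← map_mul, ← h4, map_mul, map_mul, hz]
    ext v
    simp
  have h6 : ρ (g * w) * ρ (g * w)⁻¹ = 1 := by rw [← map_mul, mul_inv_cancel, map_one]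
  have h7 : ρ (w * g * w⁻¹ * g⁻¹) = 1 := by
    calc ρ (w * g * w⁻¹ * g⁻¹) = ρ (w * g * w⁻¹ * g⁻¹) * (ρ (g * w) * ρ (g * w)⁻¹) := by
          rw [h6, mul_one]
      _ = 1 := by rw [← mul_assoc, h5, h6]
  have h8 : ρ (w * g * w⁻¹ * g⁻¹) = ρ 1 := by rw [h7, map_one ρ]
  rw [Representation.character, Representation.character, h8]

/-- Theorem A for simple groups. -/
theorem false_of_simple [IsSimpleGroup G] (hG : ¬ ∀ a b : G, a * b = b * a) {W : Subgroup G}
    (h : Hyp p W) (hN : 3 ≤ Nat.card W) : False := by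
  have hp : p.Prime := Fact.out
  have hWb : W ≠ ⊥ := by
    rintro rfl
    rw [Subgroup.card_bot] at hN
    omega
  have hcl : Subgroup.normalClosure (W : Set G) = ⊤ := by
    rcases IsSimpleGroup.eq_bot_or_eq_top_of_normal (Subgroup.normalClosure (W : Set G))
      inferInstance with h1 | h1
    · exfalso
      apply hWb
      rw [eq_bot_iff, ← h1]
      exact Subgroup.le_normalClosure
    · exact h1
  have h1 := fun w (hw : w ∈ W) (g : G) => thmA h hcl hN hw g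
  have hn : (pPrimeCore p G).Normal := Lib.Cores.pPrimeCore_normal p
  have hO : pPrimeCore p G = ⊥ := by
    rcases IsSimpleGroup.eq_bot_or_eq_top_of_normal (pPrimeCore p G) hn with h2 | h2
    · exact h2
    · exfalso
      obtain ⟨⟨w, hw⟩, hw2⟩ := Subgroup.ne_bot_iff_exists_ne_one.1 hWb
      have hw1 : w ≠ 1 := fun h => hw2 (Subtype.ext h)
      have h3 : w ∈ pPrimeCore p G := by rw [h2]; trivial
      exact not_dvd_orderOf hp (Lib.Cores.pPrimeCore_coprime p) h3 (dvd_orderOf hp h.isP hw hw1)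
  have hWc : W ≤ Subgroup.center G := by
    intro w hw
    rw [Subgroup.mem_center_iff]
    intro g
    have h2 := h1 w hw g
    rw [hO, Subgroup.mem_bot] at h2
    have h3 : w * g * w⁻¹ = g := mul_inv_eq_one.1 h2
    exact (mul_inv_eq_iff_eq_mul.1 h3).symm
  rcases IsSimpleGroup.eq_bot_or_eq_top_of_normal (Subgroup.center G) inferInstance with h2 | h2
  · rw [h2] at hWc
    exact hWb (le_bot_iff.1 hWc)
  · apply hG
    intro a b
    have : b ∈ Subgroup.center G := by rw [h2]; trivial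
    exact Subgroup.mem_center_iff.1 this a

end Cfsg.Agent.H267.ThmA
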