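import Cfsg.Prelude.Def_Solvable
import Cfsg.Agent.Lib.LocalCore
import Cfsg.Agent.OddOrderLocal.NilParts
import Mathlib.GroupTheory.IsSubnormal

/-!
# Groups of characteristic `p`: `C_G(O_p(G)) ≤ O_p(G)`

The property passes to normal and subnormal subgroups, to isomorphic groups, and to normalizers of
`p`-subgroups.
-/

set_option autoImplicit false

namespace Cfsg.Agent.H267.ChP

open Subgroup Cfsg

/-- `C_G(O_p(G)) ≤ O_p(G)`. -/
def CharP (p : ℕ) (G : Type*) [Group G] : Prop :=
  Subgroup.centralizer (pCore p G : Set G) ≤ pCore p G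

theorem charP_def {p : ℕ} {G : Type*} [Group G] :
    CharP p G ↔ Subgroup.centralizer (pCore p G : Set G) ≤ pCore p G := Iff.rfl

/-- A finite group without elements of prime order `q ≠ p` is a `p`-group. -/
theorem isPGroup_of_no_prime {G : Type*} [Group G] [Finite G] {p : ℕ} [hp : Fact p.Prime]
    (h : ∀ q : ℕ, q.Prime → q ≠ p → ∀ x : G, orderOf x = q → False) : IsPGroup p G := by
  rw [IsPGroup.iff_card]
  refine ⟨_, Nat.eq_prime_pow_of_unique_prime_dvd (Nat.card_pos.ne') ?_⟩
  intro q hq hqd
  by_contra hne
  haveI : Fact q.Prime := ⟨hq⟩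
  obtain ⟨x, hx⟩ := exists_prime_orderOf_dvd_card' q hqd
  exact h q hq hne x hx

/-- An element of prime order `q ≠ p` is not in a `p`-group. -/
theorem not_mem_of_orderOf {G : Type*} [Group G] {p q : ℕ} (hp : p.Prime) (hq : q.Prime)
    (hne : q ≠ p) {P : Subgroup G} (hP : IsPGroup p P) {x : G} (hx : orderOf x = q) : x ∉ P := by
  intro hxP
  obtain ⟨k, hk⟩ := hP ⟨x, hxP⟩
  have h1 : x ^ p ^ k = 1 := by
    have := congrArg (Subtype.val) hk
    simpa using this
  have h2 : q ∣ p ^ k := by rw [← hx]; exact orderOf_dvd_of_pow_eq_one h1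
  exact hne ((Nat.prime_dvd_prime_iff_eq hq hp).1 (hq.dvd_of_dvd_pow h2))

/-- Criterion: it suffices that no element of prime order `q ≠ p` centralizes `O_p(G)`. -/
theorem charP_of_no_prime {G : Type*} [Group G] [Finite G] {p : ℕ} [hp : Fact p.Prime]
    (h : ∀ q : ℕ, q.Prime → q ≠ p → ∀ x : G, orderOf x = q →
      (∀ u ∈ pCore p G, u * x = x * u) → False) : CharP p G := by
  refine Lib.Cores.le_pCore ?_ ?_
  · haveI := Lib.Cores.pCore_normal (G := G) p
    infer_instance
  · refine isPGroup_of_no_prime ?_
    intro q hq hne x hx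
    refine h q hq hne (x : G) ?_ ?_
    · rw [← hx]; exact Subgroup.orderOf_coe x
    · intro u hu
      exact (Subgroup.mem_centralizer_iff.1 x.2) u hu

theorem CharP.no_prime {G : Type*} [Group G] {p : ℕ} [hp : Fact p.Prime] (h : CharP p G)
    {q : ℕ} (hq : q.Prime) (hne : q ≠ p) {x : G} (hx : orderOf x = q)
    (hc : ∀ u ∈ pCore p G, u * x = x * u) : False :=
  not_mem_of_orderOf hp.out hq hne (Lib.Cores.pCore_isPGroup p) hx
    (h (Subgroup.mem_centralizer_iff.2 hc))

theorem charP_congr {G H : Type*} [Group G] [Group H] (e : G ≃* H) {p : ℕ} (h : CharP p G) :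
    CharP p H := by
  intro x hx
  rw [← Lib.Cores.map_equiv_pCore e p] at hx ⊢
  refine ⟨e.symm x, ?_, by simp⟩
  apply h
  rw [Subgroup.mem_centralizer_iff] at hx ⊢
  intro u hu
  have := hx (e u) ⟨u, hu, rfl⟩
  apply e.injective
  simpa using this

/-- Characteristic `p` passes to normal subgroups. -/
theorem charP_normal {G : Type*} [Group G] [Finite G] {p : ℕ} [hp : Fact p.Prime]
    (h : CharP p G) (N : Subgroup G) (hN : N.Normal) : CharP p ↥N := by
  refine charP_of_no_prime ?_
  intro q hq hne x hx hc
  have hxo : orderOf (x : G) = q := by rw [← hx]; exact Subgroup.orderOf_coe x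
  have hR : (pCore p ↥N).map N.subtype = N ⊓ pCore p G := by
    rw [Lib.Cores.map_subtype_pCore p hN]
  refine h.no_prime hq hne hxo ?_
  intro u hu
  have hcop : (orderOf (x : G)).Coprime (Nat.card ↥(pCore p G)) := by
    obtain ⟨n, hn⟩ := (Lib.Cores.pCore_isPGroup (G := G) p).exists_card_eq
    rw [hxo, hn]
    exact ((Nat.coprime_primes hq hp.out).2 hne).pow_right n
  have hnorm := (Lib.Cores.pCore_normal (G := G) p)
  refine (Lib.ThompsonPQ.commute_of_commutator_commute (U := pCore p G) hcop ?_ ?_ u hu).eq
  · rw [Subgroup.normalizer_eq_top]; trivial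
  · intro v hv
    have hmem : ((x : G)⁻¹ * v * x * v⁻¹) ∈ N ⊓ pCore p G := by
      constructor
      · have h1 : v * (x : G) * v⁻¹ ∈ N := hN.conj_mem _ x.2 v
        have h2 := N.mul_mem (N.inv_mem x.2) h1
        simpa [mul_assoc] using h2
      · have h1 : (x : G)⁻¹ * v * x ∈ pCore p G := by
          simpa using hnorm.conj_mem v hv (x : G)⁻¹
        exact (pCore p G).mul_mem h1 ((pCore p G).inv_mem hv)
    rw [← hR] at hmem
    obtain ⟨w, hw, hwe⟩ := hmem
    have := hc w hw
    have h3 := congrArg (Subtype.val) this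
    rw [← hwe]
    exact h3

/-- Characteristic `p` passes to subnormal subgroups. -/
theorem charP_subnormal {G : Type*} [Group G] [Finite G] {p : ℕ} [hp : Fact p.Prime]
    (h : CharP p G) (N : Subgroup G) (hN : N.IsSubnormal) : CharP p ↥N := by
  induction hN with
  | top => exact charP_congr Subgroup.topEquiv.symm h
  | step A B hle hB hn ih =>
    exact charP_congr (Subgroup.subgroupOfEquivOfLe hle) (charP_normal ih _ hn)

/-- Let `z` be an element of the `p`-subgroup `R` of `H` centralizing a Sylow `p`-subgroup of `H`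
which normalizes `R`.  If `C_H(z)` has characteristic `p` then so has `N_H(R)`. -/
theorem charP_normalizer_of_central {H : Type*} [Group H] [Finite H] {p : ℕ} [hp : Fact p.Prime]
    (R : Subgroup H) (hR : IsPGroup p R) (T : Sylow p H)
    (hT : (T : Subgroup H) ≤ Subgroup.normalizer (R : Set H)) (z : H) (hzR : z ∈ R)
    (hzT : ∀ t ∈ (T : Subgroup H), z * t = t * z)
    (hD : CharP p ↥(Subgroup.centralizer ({z} : Set H))) :
    CharP p ↥(Subgroup.normalizer (R : Set H)) := by
  set L := Subgroup.normalizer (R : Set H) with hL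
  set P : Subgroup H := (pCore p ↥L).map L.subtype with hPdef
  have hRP : R ≤ P := Lib.LocalCore.le_map_pCore Subgroup.le_normalizer hR le_rfl
  have hPp : IsPGroup p P := Lib.LocalCore.isPGroup_map_pCore p L
  have hPT : P ≤ T := by
    have h1 : pCore p ↥L ≤ ((T.subtype hT : Sylow p ↥L) : Subgroup ↥L) :=
      Lib.Cores.pCore_le_sylow _
    have h2 := Subgroup.map_mono (f := L.subtype) h1
    refine h2.trans ?_
    rw [Sylow.coe_subtype, subgroupOf_map_subtype]
    exact inf_le_left
  have hzP : ∀ u ∈ P, z * u = u * z := fun u hu => hzT u (hPT hu)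
  refine charP_of_no_prime ?_
  intro q hq hne x hx hc
  have hxo : orderOf (x : H) = q := by rw [← hx]; exact Subgroup.orderOf_coe x
  have hcP : ∀ u ∈ P, u * (x : H) = x * u := by
    rintro _ ⟨u, hu, rfl⟩
    exact congrArg Subtype.val (hc u hu)
  set D := Subgroup.centralizer ({z} : Set H) with hDdef
  have hxD : (x : H) ∈ D := by
    rw [hDdef, Subgroup.mem_centralizer_singleton_iff]
    exact (hcP z (hRP hzR)).symm
  have hPD : P ≤ D := by
    intro u hu
    rw [hDdef, Subgroup.mem_centralizer_singleton_iff]
    exact (hzP u hu).symm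
  -- `O_p(D)` as a subgroup of `H`
  set U : Subgroup H := (pCore p ↥D).map D.subtype with hUdef
  have hUD : U ≤ D := Subgroup.map_subtype_le _
  have hUp : IsPGroup p U := Lib.LocalCore.isPGroup_map_pCore p D
  have hDU : D ≤ Subgroup.normalizer (U : Set H) := Lib.LocalCore.le_normalizer_map_pCore p D
  have hDU' : ∀ u ∈ U, u * (x : H) = x * u := by
    have hkey := Lib.ThompsonPQ.thompson_p_times_q p P (Subgroup.zpowers (x : H)) U hPp
      (by
        rw [Nat.card_zpowers, hxo]
        exact (Nat.coprime_primes hq hp.out).2 hne) hUp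
      (by
        intro u hu
        rw [Subgroup.mem_centralizer_iff]
        intro y hy
        obtain ⟨k, rfl⟩ := Subgroup.mem_zpowers_iff.1 hy
        have hcomm : Commute (x : H) u := (hcP u hu).symm
        exact (hcomm.zpow_left k).eq)
      (hPD.trans hDU)
      (by
        rw [Subgroup.zpowers_le]
        exact hDU hxD)
      (by
        -- `U ⊓ C(P)` is normal in `C_L(P) = C_H(P)`, so lies in `P`
        have hsub : U ⊓ Subgroup.centralizer (P : Set H) ≤ P := by
          -- the centralizer of `P`
          set C := Subgroup.centralizer (P : Set H) with hCdef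
          have hCD : C ≤ D := by
            intro c hcC
            rw [hDdef, Subgroup.mem_centralizer_singleton_iff]
            exact ((Subgroup.mem_centralizer_iff.1 hcC) z (hRP hzR)).symm
          have hCL : C ≤ L := by
            refine le_trans ?_ (Subgroup.centralizer_le_normalizer (R : Set H))
            exact Subgroup.centralizer_le hRP
          have hUC : C ≤ Subgroup.normalizer ((U ⊓ C : Subgroup H) : Set H) := by
            refine le_trans (le_inf (hCD.trans hDU) Subgroup.le_normalizer) ?_
            exact Subgroup.inf_normalizer_le_normalizer_inf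
          have hUCp : IsPGroup p ↥(U ⊓ C : Subgroup H) := hUp.to_le inf_le_left
          -- `L` normalizes `C`
          have hLP : L ≤ Subgroup.normalizer (P : Set H) :=
            Lib.LocalCore.le_normalizer_map_pCore p L
          have hLC : L ≤ Subgroup.normalizer (C : Set H) := by
            refine hLP.trans ?_
            exact OddOrderLocal.NilParts.normalizer_le_normalizer_centralizer _
          -- O_p(C) is normalized by L
          have h1 : U ⊓ C ≤ (pCore p ↥C).map C.subtype :=
            Lib.LocalCore.le_map_pCore inf_le_right hUCp hUC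
          refine h1.trans ?_
          refine Lib.LocalCore.le_map_pCore ((Subgroup.map_subtype_le _).trans hCL)
            (Lib.LocalCore.isPGroup_map_pCore p C) ?_
          exact hLC.trans (OddOrderLocal.NilParts.normalizer_le_of_characteristic _
            (Lib.Cores.pCore_characteristic p))
        intro u hu
        have huP := hsub hu
        rw [Subgroup.mem_centralizer_iff]
        intro y hy
        obtain ⟨k, rfl⟩ := Subgroup.mem_zpowers_iff.1 hy
        have hcomm : Commute (x : H) u := (hcP u huP).symm
        exact (hcomm.zpow_left k).eq)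
    intro u hu
    exact (Subgroup.mem_centralizer_iff.1 (hkey (Subgroup.mem_zpowers (x : H)))) u hu
  refine hD.no_prime hq hne (x := ⟨x, hxD⟩) (by rw [← hxo]; exact (Subgroup.orderOf_coe (⟨x, hxD⟩ : D)).symm) ?_
  intro u hu
  apply Subtype.ext
  exact hDU' u ⟨u, hu, rfl⟩

end Cfsg.Agent.H267.ChP
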