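import Mathlib
import Cfsg.Agent.S0028
import Cfsg.Agent.Lib.PSolvable
import Cfsg.Agent.Lib.HallHigman

/-!
# Invariant `p'`-subgroups in `p`-solvable groups

* `eq_bot_of_invariant`: `X` with `C(O_p) ≤ O_p ≤ S`, `S` a `p`-group, `R ≤ S` normalized by `S` with
  `C_S(R) ≤ R`: an `R`-invariant `p'`-subgroup is trivial;
* `le_pPrimeCore_of_invariant`: the version for `p`-solvable groups;
* `mem_centralizerPPrimeCore`: application to a weakly closed abelian subgroup `W` of a Sylow subgroup `P` and a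
  `P`-invariant `p'`-subgroup `K`: `C_K(w) ≤ O_{p'}(C_G(w))`.
-/

set_option autoImplicit false

namespace Cfsg.Agent.H267.Invar

open Cfsg Subgroup

section

variable {X : Type*} [Group X] [Finite X] {p : ℕ} [Fact p.Prime]

/-- A `p`-element in a `p'`-subgroup is trivial. -/
theorem eq_one_of_mem {D Q : Subgroup X} (hD : (Nat.card D).Coprime p) (hQ : IsPGroup p Q) {x : X}
    (hx : x ∈ D) (hx' : x ∈ Q) : x = 1 := by
  obtain ⟨m, hm⟩ := (hQ.exists_orderOf_eq_pow : ∀ g : Q, _) ⟨x, hx'⟩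
  rw [Subgroup.orderOf_mk] at hm
  have h1 : orderOf x ∣ Nat.card D := by
    have h0 := orderOf_dvd_natCard (⟨x, hx⟩ : D)
    rwa [Subgroup.orderOf_mk] at h0
  rw [hm] at h1
  have h2 : Nat.Coprime (p ^ m) (Nat.card D) := Nat.Coprime.pow_left _ hD.symm
  have h3 := Nat.Coprime.eq_one_of_dvd h2 h1
  rw [h3] at hm
  exact orderOf_eq_one_iff.1 hm

theorem eq_bot_of_invariant (hC : centralizer (pCore p X : Set X) ≤ pCore p X)
    {S R D : Subgroup X} (hOS : pCore p X ≤ S) (hRS : R ≤ S) (hSp : IsPGroup p S)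
    (hSR : ∀ s ∈ S, ∀ r ∈ R, s * r * s⁻¹ ∈ R)
    (hCR : ∀ s ∈ S, (∀ r ∈ R, s * r = r * s) → s ∈ R) (hD : (Nat.card D).Coprime p)
    (hRD : ∀ r ∈ R, ∀ d ∈ D, r * d * r⁻¹ ∈ D) : D = ⊥ := by
  set Q := pCore p X with hQ
  have hQp : IsPGroup p Q := Lib.HallHigman.pCore_isPGroup p
  have hQn : Q.Normal := Lib.HallHigman.pCore_normal p
  -- `D` centralizes `R ∩ Q`
  have h1 : ∀ d ∈ D, ∀ c ∈ R, c ∈ Q → d * c * d⁻¹ = c := by
    intro d hd c hcR hcQ
    have h2 : d * c * d⁻¹ * c⁻¹ ∈ Q := Q.mul_mem (hQn.conj_mem c hcQ d) (Q.inv_mem hcQ)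
    have h3 : d * c * d⁻¹ * c⁻¹ ∈ D := by
      have h4 := D.mul_mem hd (hRD c hcR d⁻¹ (D.inv_mem hd))
      have h5 : d * (c * d⁻¹ * c⁻¹) = d * c * d⁻¹ * c⁻¹ := by group
      rwa [h5] at h4
    exact mul_inv_eq_one.1 (eq_one_of_mem hD hQp h3 h2)
  -- `[Q, R] ≤ R ∩ Q`
  have h2 : ∀ q ∈ Q, ∀ r ∈ R, q⁻¹ * (r * q * r⁻¹) ∈ R ∧ q⁻¹ * (r * q * r⁻¹) ∈ Q := by
    intro q hq r hr
    refine ⟨?_, Q.mul_mem (Q.inv_mem hq) (hQn.conj_mem q hq r)⟩
    have h3 : q⁻¹ * (r * q * r⁻¹) = (q⁻¹ * r * (q⁻¹)⁻¹) * r⁻¹ := by group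
    rw [h3]
    exact R.mul_mem (hSR q⁻¹ (S.inv_mem (hOS hq)) r hr) (R.inv_mem hr)
  -- `D` centralizes `R`
  have h3 : ∀ d ∈ D, ∀ r ∈ R, d * r = r * d := by
    intro d hd r hr
    set e : X := d * (r * d⁻¹ * r⁻¹) with he
    have heD : e ∈ D := D.mul_mem hd (hRD r hr d⁻¹ (D.inv_mem hd))
    -- `e` acts on `Q` by multiplication with elements of `R ∩ Q`
    have h4 : ∀ q ∈ Q, ∃ c ∈ R, c ∈ Q ∧ e * q * e⁻¹ = q * c := by
      intro q hq
      obtain ⟨c1R, c1Q⟩ := h2 q hq r⁻¹ (R.inv_mem hr)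
      set c1 : X := q⁻¹ * (r⁻¹ * q * r⁻¹⁻¹) with hc1
      set q2 : X := d⁻¹ * q * d with hq2
      have hq2Q : q2 ∈ Q := by
        have := hQn.conj_mem q hq d⁻¹
        rwa [inv_inv] at this
      obtain ⟨c2R, c2Q⟩ := h2 q2 hq2Q r hr
      set c2 : X := q2⁻¹ * (r * q2 * r⁻¹) with hc2
      have c3R : r * c1 * r⁻¹ ∈ R := hSR r (hRS hr) c1 c1R
      have c3Q : r * c1 * r⁻¹ ∈ Q := hQn.conj_mem c1 c1Q r
      set c3 : X := r * c1 * r⁻¹ with hc3
      refine ⟨c2 * c3, R.mul_mem c2R c3R, Q.mul_mem c2Q c3Q, ?_⟩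
      have e1 : d⁻¹ * c1 * d = c1 := by
        have := h1 d⁻¹ (D.inv_mem hd) c1 c1R c1Q
        rwa [inv_inv] at this
      have e2 : d * (c2 * c3) * d⁻¹ = c2 * c3 := h1 d hd _ (R.mul_mem c2R c3R) (Q.mul_mem c2Q c3Q)
      calc e * q * e⁻¹ = d * (r * (d⁻¹ * (r⁻¹ * q * r⁻¹⁻¹) * d) * r⁻¹) * d⁻¹ := by rw [he]; group
        _ = d * (r * (d⁻¹ * (q * c1) * d) * r⁻¹) * d⁻¹ := by
            rw [hc1]; group
        _ = d * (r * (q2 * (d⁻¹ * c1 * d)) * r⁻¹) * d⁻¹ := by rw [hq2]; group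
        _ = d * (r * (q2 * c1) * r⁻¹) * d⁻¹ := by rw [e1]
        _ = d * (q2 * (c2 * c3)) * d⁻¹ := by rw [hc2, hc3]; group
        _ = (d * q2 * d⁻¹) * (d * (c2 * c3) * d⁻¹) := by group
        _ = q * (c2 * c3) := by rw [e2, hq2]; group
    have h5 : ∀ q ∈ Q, e * q = q * e := by
      intro q hq
      obtain ⟨c, hcR, hcQ, hc⟩ := h4 q hq
      have hec : e * c * e⁻¹ = c := h1 e heD c hcR hcQ
      have h6 : ∀ n : ℕ, e ^ n * q * (e ^ n)⁻¹ = q * c ^ n := by
        intro n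
        induction n with
        | zero => simp
        | succ n ih =>
          have h7 : e ^ (n + 1) * q * (e ^ (n + 1))⁻¹ = e ^ n * (e * q * e⁻¹) * (e ^ n)⁻¹ := by
            rw [pow_succ]; group
          have h8 : e ^ n * c * (e ^ n)⁻¹ = c := by
            have h9 : Commute e c := by
              show e * c = c * e
              rw [← mul_inv_eq_iff_eq_mul]; exact hec
            have h10 : e ^ n * c = c * e ^ n := (h9.pow_left n).eq
            rw [h10, mul_inv_cancel_right]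
          have h9 : e ^ n * (q * c) * (e ^ n)⁻¹ = (e ^ n * q * (e ^ n)⁻¹) * (e ^ n * c * (e ^ n)⁻¹) := by
            group
          rw [h7, hc, h9, ih, h8, pow_succ, mul_assoc]
      have h7 : c ^ orderOf e = 1 := by
        have h8 := h6 (orderOf e)
        rw [pow_orderOf_eq_one] at h8
        simpa using h8
      have h8 : c = 1 := by
        have h9 : orderOf c ∣ orderOf e := orderOf_dvd_of_pow_eq_one h7
        have h10 : orderOf e ∣ Nat.card D := by
          have h0 := orderOf_dvd_natCard (⟨e, heD⟩ : D)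
          rwa [Subgroup.orderOf_mk] at h0
        obtain ⟨m, hm⟩ := (hQp.exists_orderOf_eq_pow : ∀ g : Q, _) ⟨c, hcQ⟩
        rw [Subgroup.orderOf_mk] at hm
        have h11 := h9.trans h10
        rw [hm] at h11
        have h12 : Nat.Coprime (p ^ m) (Nat.card D) := Nat.Coprime.pow_left _ hD.symm
        have h13 := Nat.Coprime.eq_one_of_dvd h12 h11
        rw [h13] at hm
        exact orderOf_eq_one_iff.1 hm
      rw [h8, mul_one] at hc
      exact mul_inv_eq_iff_eq_mul.1 hc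
    have h6 : e ∈ Q := by
      apply hC
      rw [mem_centralizer_iff]
      intro q hq
      exact (h5 q hq).symm
    have h7 : e = 1 := eq_one_of_mem hD hQp heD h6
    have h8 : d * r * d⁻¹ * r⁻¹ = 1 := by rw [← h7, he]; group
    exact mul_inv_eq_iff_eq_mul.1 (mul_inv_eq_one.1 h8)
  -- the P × Q lemma
  have h4 : D ≤ centralizer (Q : Set X) := by
    refine S0028.result p R D Q (hSp.to_le hRS) hD hQp ?_ ?_ ?_ ?_
    · intro r hr
      rw [mem_centralizer_iff]
      intro d hd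
      exact h3 d hd r hr
    · intro r _
      rw [Subgroup.normalizer_eq_top (H := Q)]
      trivial
    · intro r _
      rw [Subgroup.normalizer_eq_top (H := Q)]
      trivial
    · rintro c ⟨hcQ, hcR⟩
      have hcR' : c ∈ R := hCR c (hOS hcQ) fun r hr => (mem_centralizer_iff.1 hcR r hr).symm
      rw [mem_centralizer_iff]
      intro d hd
      exact mul_inv_eq_iff_eq_mul.1 (h1 d hd c hcR' hcQ)
  rw [eq_bot_iff]
  intro d hd
  rw [mem_bot]
  exact eq_one_of_mem hD hQp hd (hC (h4 hd))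

/-- `R`-invariant `p'`-subgroups of a `p`-solvable group lie in `O_{p'}`, when `R` is normal and contains its
centralizer in a Sylow `p`-subgroup. -/
theorem le_pPrimeCore_of_invariant (hX : IsPSolvable p X) (S : Sylow p X) {R D : Subgroup X}
    (hRS : R ≤ (S : Subgroup X))
    (hSR : ∀ s ∈ (S : Subgroup X), ∀ r ∈ R, s * r * s⁻¹ ∈ R)
    (hCR : ∀ s ∈ (S : Subgroup X), (∀ r ∈ R, s * r = r * s) → s ∈ R)
    (hD : (Nat.card D).Coprime p) (hRD : ∀ r ∈ R, ∀ d ∈ D, r * d * r⁻¹ ∈ D) :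
    D ≤ pPrimeCore p X := by
  have hp : p.Prime := Fact.out
  set K := pPrimeCore p X with hK
  have hKn : K.Normal := Lib.HallHigman.pPrimeCore_normal p
  have hKc : (Nat.card K).Coprime p := Lib.HallHigman.pPrimeCore_coprime p
  set π := QuotientGroup.mk' K with hπ
  have hπs : Function.Surjective π := QuotientGroup.mk'_surjective K
  have hker : ∀ x : X, π x = 1 ↔ x ∈ K := fun x => by
    rw [hπ, QuotientGroup.mk'_apply, QuotientGroup.eq_one_iff]
  have hsol : IsPSolvable p (X ⧸ K) := Lib.PSolvable.IsPSolvable_of_surjective p hX π hπs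
  have hO : pPrimeCore p (X ⧸ K) = ⊥ := by
    exact Lib.HallHigman.pPrimeCore_quotient_eq_bot (G := X) p K rfl
  have hC := Lib.PSolvable.centralizer_pCore_le_of_pSolvable p hsol hO
  have hOS : pCore p (X ⧸ K) ≤ (S : Subgroup X).map π := by
    have := Lib.HallHigman.pCore_le_sylow p (S.mapSurjective hπs)
    exact this
  have hbot : D.map π = ⊥ := by
    refine eq_bot_of_invariant hC (S := (S : Subgroup X).map π) (R := R.map π) hOS
      (Subgroup.map_mono hRS) (S.isPGroup'.map π) ?_ ?_ ?_ ?_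
    · rintro _ ⟨s, hs, rfl⟩ _ ⟨r, hr, rfl⟩
      exact ⟨s * r * s⁻¹, hSR s hs r hr, by simp⟩
    · rintro _ ⟨s, hs, rfl⟩ h
      refine ⟨s, hCR s hs fun r hr => ?_, rfl⟩
      have h1 := h (π r) ⟨r, hr, rfl⟩
      have h2 : s * r * s⁻¹ * r⁻¹ ∈ K := by
        rw [← hker, map_mul, map_mul, map_mul, map_inv, map_inv, h1]
        group
      have h3 : s * r * s⁻¹ * r⁻¹ ∈ (S : Subgroup X) :=
        mul_mem (mul_mem (mul_mem hs (hRS hr)) (inv_mem hs)) (inv_mem (hRS hr))
      have h4 := eq_one_of_mem hKc S.isPGroup' h2 h3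
      exact mul_inv_eq_iff_eq_mul.1 (mul_inv_eq_one.1 h4)
    · exact Nat.Coprime.coprime_dvd_left (Subgroup.card_map_dvd D π) hD
    · rintro _ ⟨r, hr, rfl⟩ _ ⟨d, hd, rfl⟩
      exact ⟨r * d * r⁻¹, hRD r hr d hd, by simp⟩
  intro d hd
  rw [← hker]
  have : π d ∈ D.map π := ⟨d, hd, rfl⟩
  rw [hbot] at this
  exact this

end

section

variable {G : Type*} [Group G] [Finite G] {p : ℕ} [Fact p.Prime]

omit [Finite G] [Fact p.Prime] in
theorem mem_smul_sylow (P : Sylow p G) (h x : G) :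
    x ∈ ((h • P : Sylow p G) : Subgroup G) ↔ h⁻¹ * x * h ∈ (P : Subgroup G) := by
  rw [Sylow.coe_subgroup_smul, Subgroup.mem_pointwise_smul_iff_inv_smul_mem, ← map_inv,
    MulAut.smul_def, MulAut.conj_apply, inv_inv]

/-- Let `W` be an abelian weakly closed subgroup of the Sylow subgroup `P` and `K` a `P`-invariant
`p'`-subgroup.  If `C(w)` is `p`-solvable, `w ∈ W`, then `C_K(w) ≤ O_{p'}(C(w))`. -/
theorem mem_centralizerPPrimeCore (P : Sylow p G) {W K : Subgroup G}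
    (hWP : W ≤ (P : Subgroup G)) (hWa : ∀ x ∈ W, ∀ y ∈ W, x * y = y * x)
    (hWc : ∀ g : G, (∀ w ∈ W, g * w * g⁻¹ ∈ (P : Subgroup G)) →
      g ∈ Subgroup.normalizer (W : Set G))
    (hK : (Nat.card K).Coprime p)
    (hPK : ∀ r ∈ (P : Subgroup G), ∀ x ∈ K, r * x * r⁻¹ ∈ K)
    {w : G} (hw : w ∈ W) (hsol : IsPSolvable p (Subgroup.centralizer ({w} : Set G)))
    {u : G} (hu : u ∈ K) (hwu : w * u = u * w) : u ∈ centralizerPPrimeCore p w := by
  have hp : p.Prime := Fact.out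
  set X : Subgroup G := Subgroup.centralizer ({w} : Set G) with hX
  have hmemX : ∀ x : G, x ∈ X ↔ x * w = w * x := fun x => by
    rw [hX, Subgroup.mem_centralizer_singleton_iff]
  set R : Subgroup G := (P : Subgroup G) ⊓ Subgroup.centralizer (W : Set G) with hR
  have hmemC : ∀ x : G, x ∈ Subgroup.centralizer (W : Set G) ↔ ∀ y ∈ W, x * y = y * x := by
    intro x
    rw [Subgroup.mem_centralizer_iff]
    exact ⟨fun h y hy => (h y hy).symm, fun h y hy => (h y hy).symm⟩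
  have hRX : R ≤ X := by
    intro x hx
    rw [hmemX]
    exact (hmemC x).1 hx.2 w hw
  have hWR : W ≤ R := fun x hx => ⟨hWP hx, (hmemC x).2 fun y hy => hWa x hx y hy⟩
  have hRp : IsPGroup p (R.subgroupOf X) := by
    have h1 : IsPGroup p R := P.isPGroup'.to_le inf_le_left
    exact h1.of_equiv (Subgroup.subgroupOfEquivOfLe hRX).symm
  obtain ⟨S, hS⟩ := hRp.exists_le_sylow
  have hSp : IsPGroup p ((S : Subgroup X).map X.subtype) := S.isPGroup'.map _
  obtain ⟨Q, hQ⟩ := hSp.exists_le_sylow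
  obtain ⟨h, hh⟩ := MulAction.exists_smul_eq G P Q
  have hQP : ∀ x : G, x ∈ (Q : Subgroup G) ↔ h⁻¹ * x * h ∈ (P : Subgroup G) := by
    intro x
    rw [← hh]
    exact mem_smul_sylow P h x
  have hSQ : ∀ s : X, s ∈ (S : Subgroup X) → (s : G) ∈ (Q : Subgroup G) := fun s hs =>
    hQ ⟨s, hs, rfl⟩
  have hRQ : R ≤ (Q : Subgroup G) := by
    intro x hx
    exact hSQ ⟨x, hRX hx⟩ (hS (Subgroup.mem_subgroupOf.2 hx))
  have hhN' : h⁻¹ ∈ Subgroup.normalizer (W : Set G) := by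
    apply hWc
    intro x hx
    have := (hQP x).1 (hRQ (hWR hx))
    rwa [inv_inv]
  have hhN : h ∈ Subgroup.normalizer (W : Set G) := by
    have := inv_mem hhN'
    rwa [inv_inv] at this
  have hPN : ∀ r ∈ (P : Subgroup G), r ∈ Subgroup.normalizer (W : Set G) := by
    intro r hr
    apply hWc
    intro x hx
    exact mul_mem (mul_mem hr (hWP hx)) (inv_mem hr)
  have hQN : ∀ r ∈ (Q : Subgroup G), r ∈ Subgroup.normalizer (W : Set G) := by
    intro r hr
    have h1 := hPN _ ((hQP r).1 hr)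
    have h2 : r = h * (h⁻¹ * r * h) * h⁻¹ := by group
    rw [h2]
    exact mul_mem (mul_mem hhN h1) hhN'
  -- `Q ∩ C(W) = R`
  have hnorm : ∀ g ∈ Subgroup.normalizer (W : Set G), ∀ x ∈ Subgroup.centralizer (W : Set G),
      g * x * g⁻¹ ∈ Subgroup.centralizer (W : Set G) := by
    intro g hg x hx
    rw [hmemC] at hx ⊢
    intro y hy
    have h1 : g⁻¹ * y * g ∈ W := by
      have := (Subgroup.mem_normalizer_iff.1 (inv_mem hg) y).1 hy
      rwa [inv_inv] at this
    have h2 := hx _ h1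
    calc g * x * g⁻¹ * y = g * (x * (g⁻¹ * y * g)) * g⁻¹ := by group
      _ = g * ((g⁻¹ * y * g) * x) * g⁻¹ := by rw [h2]
      _ = y * (g * x * g⁻¹) := by group
  have hQR : (Q : Subgroup G) ⊓ Subgroup.centralizer (W : Set G) ≤ R := by
    have hle : R ≤ (Q : Subgroup G) ⊓ Subgroup.centralizer (W : Set G) :=
      le_inf hRQ inf_le_right
    have hcard : Nat.card ((Q : Subgroup G) ⊓ Subgroup.centralizer (W : Set G) : Subgroup G) ≤
        Nat.card R := by
      refine Nat.card_le_card_of_injective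
        (fun x : ((Q : Subgroup G) ⊓ Subgroup.centralizer (W : Set G) : Subgroup G) =>
          (⟨h⁻¹ * x * h, ⟨(hQP x).1 x.2.1, ?_⟩⟩ : R)) ?_
      · have := hnorm h⁻¹ hhN' x x.2.2
        rwa [inv_inv] at this
      · intro x y hxy
        have h1 : h⁻¹ * (x : G) * h = h⁻¹ * (y : G) * h := congrArg Subtype.val hxy
        apply Subtype.ext
        exact mul_left_cancel (mul_right_cancel h1)
    exact (Subgroup.eq_of_le_of_card_ge hle hcard).ge
  -- the invariant subgroup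
  set D : Subgroup X := K.subgroupOf X with hD
  have hDc : (Nat.card D).Coprime p := by
    have h1 : Nat.card D ∣ Nat.card K := by
      rw [hD]
      have h2 : Nat.card (K.subgroupOf X) = Nat.card ((K.subgroupOf X).map X.subtype) :=
        Nat.card_congr ((K.subgroupOf X).equivMapOfInjective _ X.subtype_injective).toEquiv
      rw [h2, Subgroup.subgroupOf_map_subtype]
      exact Subgroup.card_dvd_of_le inf_le_left
    exact Nat.Coprime.coprime_dvd_left h1 hK
  have hmain : D ≤ pPrimeCore p X := by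
    refine le_pPrimeCore_of_invariant hsol S (R := R.subgroupOf X) hS ?_ ?_ hDc ?_
    · intro s hs r hr
      rw [Subgroup.mem_subgroupOf] at hr ⊢
      apply hQR
      refine Subgroup.mem_inf.2 ⟨?_, ?_⟩
      · exact mul_mem (mul_mem (hSQ s hs) (hRQ hr)) (inv_mem (hSQ s hs))
      · exact hnorm s (hQN s (hSQ s hs)) r hr.2
    · intro s hs hsr
      rw [Subgroup.mem_subgroupOf]
      apply hQR
      refine Subgroup.mem_inf.2 ⟨hSQ s hs, ?_⟩
      rw [hmemC]
      intro y hy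
      have h1 := hsr ⟨y, hRX (hWR hy)⟩ (Subgroup.mem_subgroupOf.2 (hWR hy))
      exact congrArg Subtype.val h1
    · intro r hr d hd
      rw [Subgroup.mem_subgroupOf] at hr hd ⊢
      exact hPK r hr.1 d hd
  have huX : u ∈ X := (hmemX u).2 hwu.symm
  exact ⟨⟨u, huX⟩, hmain (Subgroup.mem_subgroupOf.2 hu), rfl⟩

end

end Cfsg.Agent.H267.Invar
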