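import Mathlib
import Cfsg.Agent.H267.Invar

/-!
# Pairs of Sylow subgroups in `p`-solvable groups

* `mk_mem_pCore`: central elements of a Sylow `p`-subgroup of a `p`-solvable group `X` are mapped into
  `O_p(X/O_{p'}(X))`;
* `pair_comm`: the centres of two Sylow `p`-subgroups commute modulo `O_{p'}(X)`;
* `pair_conj`: a central subgroup of a Sylow subgroup can be conjugated into another one by an element of
  `O_{p'}(X)`.
-/

set_option autoImplicit false

namespace Cfsg.Agent.H267.PairSylow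

open Cfsg Subgroup

variable {X : Type*} [Group X] [Finite X] {p : ℕ} [Fact p.Prime]

theorem mk_mem_pCore (hX : IsPSolvable p X) (P : Sylow p X) {K : Subgroup X} [K.Normal]
    (hK : K = pPrimeCore p X) {z : X} (hzc : ∀ r ∈ (P : Subgroup X), r * z = z * r) :
    QuotientGroup.mk' K z ∈ pCore p (X ⧸ K) := by
  have hπs : Function.Surjective (QuotientGroup.mk' K) := QuotientGroup.mk'_surjective K
  have hsol : IsPSolvable p (X ⧸ K) := Lib.PSolvable.IsPSolvable_of_surjective p hX _ hπs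
  have hO : pPrimeCore p (X ⧸ K) = ⊥ := Lib.HallHigman.pPrimeCore_quotient_eq_bot (G := X) p K hK
  have hC := Lib.PSolvable.centralizer_pCore_le_of_pSolvable p hsol hO
  have hOS : pCore p (X ⧸ K) ≤ (P : Subgroup X).map (QuotientGroup.mk' K) :=
    Lib.HallHigman.pCore_le_sylow p (P.mapSurjective hπs)
  apply hC
  rw [mem_centralizer_iff]
  intro q hq
  obtain ⟨r, hr, rfl⟩ := hOS hq
  rw [← map_mul, ← map_mul, hzc r hr]

theorem pair_comm (hX : IsPSolvable p X) (P₁ P₂ : Sylow p X) {z z' : X}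
    (hzc : ∀ r ∈ (P₁ : Subgroup X), r * z = z * r)
    (hzc' : ∀ r ∈ (P₂ : Subgroup X), r * z' = z' * r) :
    z * z' * z⁻¹ * z'⁻¹ ∈ pPrimeCore p X := by
  set K := pPrimeCore p X with hK
  have hKn : K.Normal := Lib.HallHigman.pPrimeCore_normal p
  have hπs : Function.Surjective (QuotientGroup.mk' K) := QuotientGroup.mk'_surjective K
  have h1 := mk_mem_pCore hX P₁ hK hzc
  have hOS : pCore p (X ⧸ K) ≤ (P₂ : Subgroup X).map (QuotientGroup.mk' K) :=
    Lib.HallHigman.pCore_le_sylow p (P₂.mapSurjective hπs)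
  obtain ⟨r, hr, hr'⟩ := hOS h1
  have h2 : QuotientGroup.mk' K (z * z' * z⁻¹ * z'⁻¹) = 1 := by
    rw [map_mul, map_mul, map_mul, map_inv, map_inv, ← hr', ← map_mul, hzc' r hr, map_mul]
    group
  rwa [QuotientGroup.mk'_apply, QuotientGroup.eq_one_iff] at h2

theorem pair_conj (hX : IsPSolvable p X) (P₁ P₂ : Sylow p X) {Z : Subgroup X} (hZp : IsPGroup p Z)
    (hZc : ∀ r ∈ (P₂ : Subgroup X), ∀ z ∈ Z, r * z = z * r) :
    ∃ k ∈ pPrimeCore p X, ∀ z ∈ Z, k⁻¹ * z * k ∈ (P₁ : Subgroup X) := by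
  set K := pPrimeCore p X with hK
  have hKn : K.Normal := Lib.HallHigman.pPrimeCore_normal p
  have hπs : Function.Surjective (QuotientGroup.mk' K) := QuotientGroup.mk'_surjective K
  have hOS : pCore p (X ⧸ K) ≤ (P₁ : Subgroup X).map (QuotientGroup.mk' K) :=
    Lib.HallHigman.pCore_le_sylow p (P₁.mapSurjective hπs)
  set L : Subgroup X := (P₁ : Subgroup X) ⊔ K with hL
  have hZL : Z ≤ L := by
    intro z hz
    obtain ⟨r, hr, hr'⟩ := hOS (mk_mem_pCore hX P₂ hK fun r hr => hZc r hr z hz)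
    have h1 : r⁻¹ * z ∈ K := by
      rw [← QuotientGroup.eq]
      exact hr'
    have h2 : z = r * (r⁻¹ * z) := by group
    rw [h2]
    exact mul_mem (mem_sup_left hr) (mem_sup_right h1)
  have hPL : (P₁ : Subgroup X) ≤ L := le_sup_left
  -- `P₁` as a Sylow subgroup of `L`
  set P' : Sylow p L := P₁.subtype hPL with hP'
  have hZ' : IsPGroup p (Z.subgroupOf L) := hZp.of_equiv (Subgroup.subgroupOfEquivOfLe hZL).symm
  obtain ⟨Q, hQ⟩ := hZ'.exists_le_sylow
  obtain ⟨l, hl⟩ := MulAction.exists_smul_eq L P' Q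
  have hlL : (l : X) ∈ K ⊔ (P₁ : Subgroup X) := by
    rw [sup_comm]
    exact l.2
  obtain ⟨k, hk, u, hu, hku⟩ := (Subgroup.mem_sup_of_normal_left).1 hlL
  refine ⟨k, hk, fun z hz => ?_⟩
  have h1 : (⟨z, hZL hz⟩ : L) ∈ (Q : Subgroup L) := hQ (Subgroup.mem_subgroupOf.2 hz)
  rw [← hl, Invar.mem_smul_sylow] at h1
  have h2 : ((l⁻¹ * ⟨z, hZL hz⟩ * l : L) : X) ∈ (P₁ : Subgroup X) := by
    rw [hP'] at h1
    exact h1
  have h3 : ((l⁻¹ * ⟨z, hZL hz⟩ * l : L) : X) = u⁻¹ * (k⁻¹ * z * k) * u := by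
    rw [Subgroup.coe_mul, Subgroup.coe_mul, Subgroup.coe_inv, ← hku]
    group
  rw [h3] at h2
  have h4 : k⁻¹ * z * k = u * (u⁻¹ * (k⁻¹ * z * k) * u) * u⁻¹ := by group
  rw [h4]
  exact mul_mem (mul_mem hu h2) (inv_mem hu)

end Cfsg.Agent.H267.PairSylow
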