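import Mathlib
import Cfsg.Agent.H267.ThmA

/-!
# Theorem B: the asymmetric version of Theorem A

`W` is an abelian `p`-subgroup of `G`, `Z ≤ W`, and for every `g : G` there is a `p'`-subgroup `K` normalized by
`W` with `C_K(w) ≤ O_{p'}(C_G(w))` for `1 ≠ w ∈ W`, and `k ∈ K` with `Z^{gk} ≤ W`.  Let `P` be a Sylow
`p`-subgroup centralizing `Z`.

* `card_fus_le`: the fusion inequality for `z ∈ Z`: `δ m - N ≤ N₀/(N₀-1) (m - 1)`;
* `falseB`: `G` is not simple nonabelian when `|Z| ≥ 3` and `|P| ≥ 2|W|`.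
-/

set_option autoImplicit false

namespace Cfsg.Agent.H267.ThmA

open Cfsg Cfsg.Agent.Characters Cfsg.Agent.Characters.Core
open scoped ComplexConjugate

/-- The hypothesis of Theorem B. -/
structure HypB {G : Type*} [Group G] (p : ℕ) (W Z : Subgroup G) : Prop where
  ab : ∀ x ∈ W, ∀ y ∈ W, x * y = y * x
  isP : IsPGroup p W
  le : Z ≤ W
  exK : ∀ g : G, ∃ K : Subgroup G, (Nat.card K).Coprime p ∧
    (∀ w ∈ W, ∀ x ∈ K, w * x * w⁻¹ ∈ K) ∧
    (∀ w ∈ W, w ≠ 1 → ∀ u ∈ K, w * u = u * w → u ∈ centralizerPPrimeCore p w) ∧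
    ∃ k ∈ K, ∀ z ∈ Z, (g * k)⁻¹ * z * (g * k) ∈ W

variable {G : Type*} [Group G] [Finite G] {p : ℕ} [Fact p.Prime]

/-- The key evaluation. -/
theorem keyB {W Z : Subgroup G} [Fintype W] [Fintype Z] (h : HypB p W Z) {M : Ideal AlgInt}
    (hM : IsPModular p M) (g : G) :
    ∃ y : Z → G, (∀ z, ¬ p ∣ orderOf (y z)) ∧ ∀ χ ∈ principalBlock M G,
      (∀ z : Z, ∑ w : W, (χ : G → ℂ) (g⁻¹ * z * g * w) = T W (χ : G → ℂ) + (χ : G → ℂ) (y z)) ∧
      (Nat.card Z : ℝ) * (T Z (χ : G → ℂ)).re + (∑ z : Z, (χ : G → ℂ) (y z)).re ≤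
        (Nat.card Z : ℝ) * (∑ z : Z, (χ : G → ℂ) (y z)).re := by
  classical
  have := Fintype.ofFinite G
  have hp : p.Prime := Fact.out
  obtain ⟨K, hK, hWK, hbal, k, hk, hkg⟩ := h.exK g
  set c : G → G := fun z => (g * k)⁻¹ * z * (g * k) with hc
  have hcW : ∀ z ∈ Z, c z ∈ W := hkg
  have hKy : ∀ z ∈ Z, k * c z * k⁻¹ * (c z)⁻¹ ∈ K := by
    intro z hz
    have h1 := hWK (c z) (hcW z hz) k⁻¹ (K.inv_mem hk)
    have h2 : k * c z * k⁻¹ * (c z)⁻¹ = k * (c z * k⁻¹ * (c z)⁻¹) := by group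
    rw [h2]
    exact K.mul_mem hk h1
  have hcz : ∀ z : G, g⁻¹ * z * g = k * c z * k⁻¹ := by
    intro z
    rw [hc]
    group
  refine ⟨fun z => k * c z * k⁻¹ * (c z)⁻¹, fun z => not_dvd_orderOf hp hK (hKy z z.2), ?_⟩
  intro χ hχ
  have hcl := isIrr_isClassFunction χ.2
  have hval : ∀ z ∈ Z, ∀ w ∈ W, c z * w ≠ 1 →
      (χ : G → ℂ) (k * c z * k⁻¹ * w) = (χ : G → ℂ) (c z * w) := by
    intro z hz w hw hne
    have h4 := val hM h.isP h.ab hK hWK hbal hχ (K.inv_mem hk) (hcW z hz) hw hne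
    rwa [inv_inv] at h4
  constructor
  · intro z
    set z' : W := ⟨c z, hcW z z.2⟩ with hz'
    have h2 : ∀ w : W, (χ : G → ℂ) (g⁻¹ * z * g * w) = (χ : G → ℂ) ((z' * w : W) : G) +
        (if w = z'⁻¹ then (χ : G → ℂ) (k * c z * k⁻¹ * (c z)⁻¹) - (χ : G → ℂ) 1 else 0) := by
      intro w
      rw [hcz]
      by_cases hw : w = z'⁻¹
      · rw [if_pos hw, hw]
        simp [hz']
      · rw [if_neg hw, add_zero]
        have hwv : c z * w ≠ 1 := by
          intro h3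
          apply hw
          apply Subtype.ext
          rw [Subgroup.coe_inv]
          exact eq_inv_of_mul_eq_one_right h3
        rw [hval z z.2 w w.2 hwv, Subgroup.coe_mul]
    rw [Finset.sum_congr rfl fun w _ => h2 w, Finset.sum_add_distrib, Finset.sum_ite_eq',
      if_pos (Finset.mem_univ _)]
    have h3 : ∑ w : W, (χ : G → ℂ) ((z' * w : W) : G) = ∑ w : W, (χ : G → ℂ) w :=
      Fintype.sum_equiv (Equiv.mulLeft z') _ _ fun w => rfl
    rw [h3]
    unfold T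
    ring
  · have hpos := PosDef.re_le χ.2 Z (g * k⁻¹ * g⁻¹)
    have e1 : ∀ z v : G, (χ : G → ℂ) ((g * k⁻¹ * g⁻¹)⁻¹ * z * (g * k⁻¹ * g⁻¹) * v) =
        (χ : G → ℂ) (k * c z * k⁻¹ * c v) := by
      intro z v
      rw [← hcl _ (g * k)⁻¹]
      congr 1
      rw [hc]
      group
    have e2 : ∑ z : Z, (χ : G → ℂ) ((g * k⁻¹ * g⁻¹)⁻¹ * z * (g * k⁻¹ * g⁻¹) * (z : G)⁻¹) =
        ∑ z : Z, (χ : G → ℂ) (k * c z * k⁻¹ * (c z)⁻¹) := by
      refine Finset.sum_congr rfl fun z _ => ?_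
      rw [e1]
      congr 2
      rw [hc]
      group
    have e3 : ∑ z : Z, ∑ v : Z, (χ : G → ℂ) ((g * k⁻¹ * g⁻¹)⁻¹ * z * (g * k⁻¹ * g⁻¹) * v) =
        (Nat.card Z : ℂ) * T Z (χ : G → ℂ) + ∑ z : Z, (χ : G → ℂ) (k * c z * k⁻¹ * (c z)⁻¹) := by
      have h1 : ∀ z : Z, ∑ v : Z, (χ : G → ℂ) ((g * k⁻¹ * g⁻¹)⁻¹ * z * (g * k⁻¹ * g⁻¹) * v) =
          T Z (χ : G → ℂ) + (χ : G → ℂ) (k * c z * k⁻¹ * (c z)⁻¹) := by
        intro z
        have h2 : ∀ v : Z, (χ : G → ℂ) ((g * k⁻¹ * g⁻¹)⁻¹ * z * (g * k⁻¹ * g⁻¹) * v) =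
            (χ : G → ℂ) ((z * v : Z) : G) +
            (if v = z⁻¹ then (χ : G → ℂ) (k * c z * k⁻¹ * (c z)⁻¹) - (χ : G → ℂ) 1 else 0) := by
          intro v
          rw [e1]
          by_cases hv : v = z⁻¹
          · rw [if_pos hv, hv]
            have h3 : c ((z⁻¹ : Z) : G) = (c z)⁻¹ := by
              rw [hc, Subgroup.coe_inv]
              group
            rw [h3]
            simp
          · rw [if_neg hv, add_zero]
            have h4 : c z * c v = c ((z * v : Z) : G) := by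
              rw [hc, Subgroup.coe_mul]
              group
            have hne : c z * c v ≠ 1 := by
              rw [h4]
              intro h5
              apply hv
              apply eq_inv_of_mul_eq_one_right
              apply Subtype.ext
              rw [Subgroup.coe_one]
              have h6 : (g * k) * c ((z * v : Z) : G) * (g * k)⁻¹ = ((z * v : Z) : G) := by
                rw [hc]
                group
              rw [← h6, h5]
              group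
            rw [hval z z.2 (c v) (hcW v v.2) hne, h4]
            have h7 : c ((z * v : Z) : G) = (g * k)⁻¹ * ((z * v : Z) : G) * ((g * k)⁻¹)⁻¹ := by
              rw [hc, inv_inv]
            rw [h7]
            exact hcl _ _
        rw [Finset.sum_congr rfl fun v _ => h2 v, Finset.sum_add_distrib, Finset.sum_ite_eq',
          if_pos (Finset.mem_univ _)]
        have h3 : ∑ v : Z, (χ : G → ℂ) ((z * v : Z) : G) = ∑ v : Z, (χ : G → ℂ) v :=
          Fintype.sum_equiv (Equiv.mulLeft z) _ _ fun v => rfl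
        rw [h3]
        unfold T
        ring
      rw [Finset.sum_congr rfl fun z _ => h1 z, Finset.sum_add_distrib, Finset.sum_const,
        Finset.card_univ, nsmul_eq_mul, ← Nat.card_eq_fintype_card]
    rw [e3, e2, Complex.add_re] at hpos
    rw [T_ofReal Z (isIrr_isCharacter χ.2), ← Complex.ofReal_natCast, ← Complex.ofReal_mul,
      Complex.ofReal_re] at hpos
    exact hpos

/-- The average of the values at the `p`-regular elements. -/
theorem sum_key [Fintype G] {W : Subgroup G} [Fintype W] {χ : G → ℂ} (hχ : IsIrrCharacter G χ) (z : G) :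
    ∑ g : G, ∑ w : W, χ (g⁻¹ * z * g * w) = (Nat.card G : ℂ) * (χ z * (T W χ + χ 1) / χ 1) := by
  rw [Finset.sum_comm]
  have h1 : ∀ w : W, ∑ g : G, χ (g⁻¹ * z * g * w) = (Nat.card G : ℂ) / χ 1 * χ z * χ w := by
    intro w
    have h2 := Central.sum_char_conj_mul hχ z (w : G)
    have h3 : ∑ g : G, χ (g⁻¹ * z * g * w) = ∑ a, χ (a * z * a⁻¹ * w) := by
      refine Fintype.sum_equiv (Equiv.inv G) _ _ fun g => ?_
      simp
    rw [h3, h2]
    ring
  rw [Finset.sum_congr rfl fun w _ => h1 w, ← Finset.mul_sum]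
  unfold T
  ring

/-- For nonprincipal characters in the principal block, `(N₀ - 1) (T_W + d) ≤ N₀ d`. -/
theorem alpha_le {W Z : Subgroup G} [Fintype W] [Fintype Z] (h : HypB p W Z) {M : Ideal AlgInt}
    (hM : IsPModular p M) (hcl : Subgroup.normalClosure (Z : Set G) = ⊤)
    {χ : IrrCharacter G} (hχ : χ ∈ blk M G) (hne : χ ≠ one G) {d : ℕ} (hd : (χ : G → ℂ) 1 = d) :
    ((Nat.card Z : ℝ) - 1) * ((T W (χ : G → ℂ)).re + d) ≤ (Nat.card Z : ℝ) * d := by
  classical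
  have := Fintype.ofFinite G
  have hch := isIrr_isCharacter χ.2
  obtain ⟨t, ht⟩ := T_eq W hch
  obtain ⟨s, hs⟩ := T_eq Z hch
  have hlt := T_lt hcl hne hd
  rw [hs, Complex.ofReal_re] at hlt
  rw [ht, Complex.ofReal_re]
  have hdpos : (0 : ℝ) < d := by
    obtain ⟨d', hd0, hd'⟩ := isIrr_apply_one χ.2
    have hdd : d' = d := by
      have : (d' : ℂ) = d := by rw [← hd', hd]
      exact_mod_cast this
    rw [← hdd]
    exact_mod_cast hd0
  have hG : (0 : ℝ) < Nat.card G := by exact_mod_cast Nat.card_pos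
  choose y hy1 hy2 using fun g => keyB h hM g
  -- the average of the sum of the `χ (y g z)`
  have h1 : ∑ g : G, ∑ z : Z, (χ : G → ℂ) (y g z) =
      (Nat.card G : ℂ) * ((s + d) * (t + d) / d - Nat.card Z * t) := by
    rw [Finset.sum_comm]
    have h2 : ∀ z : Z, ∑ g : G, (χ : G → ℂ) (y g z) =
        (Nat.card G : ℂ) * ((χ : G → ℂ) z * ((t + d) / d) - t) := by
      intro z
      have h3 := sum_key (W := W) χ.2 (z : G)
      rw [Finset.sum_congr rfl fun g _ => (hy2 g χ (mem_blk.1 hχ)).1 z, Finset.sum_add_distrib,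
        Finset.sum_const, Finset.card_univ, nsmul_eq_mul, ← Nat.card_eq_fintype_card, ht, hd] at h3
      linear_combination h3
    rw [Finset.sum_congr rfl fun z _ => h2 z, ← Finset.mul_sum, Finset.sum_sub_distrib,
      ← Finset.sum_mul, Finset.sum_const, Finset.card_univ, nsmul_eq_mul, ← Nat.card_eq_fintype_card]
    have h4 : ∑ z : Z, (χ : G → ℂ) z = s + d := by
      have : T Z (χ : G → ℂ) = ∑ z : Z, (χ : G → ℂ) z - (χ : G → ℂ) 1 := rfl
      rw [hs, hd] at this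
      linear_combination -this
    rw [h4]
    ring
  have h2 : ∑ g : G, (∑ z : Z, (χ : G → ℂ) (y g z)).re =
      (Nat.card G : ℝ) * ((s + d) * (t + d) / d - Nat.card Z * t) := by
    rw [← Complex.re_sum, h1]
    rw [← Complex.ofReal_re ((Nat.card G : ℝ) * ((s + d) * (t + d) / d - Nat.card Z * t))]
    congr 1
    push_cast
    ring
  have h3 : ∀ g : G, (Nat.card Z : ℝ) * s ≤
      ((Nat.card Z : ℝ) - 1) * (∑ z : Z, (χ : G → ℂ) (y g z)).re := by
    intro g
    have h4 := (hy2 g χ (mem_blk.1 hχ)).2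
    rw [hs, Complex.ofReal_re] at h4
    linarith
  have h4 : ∑ g : G, (Nat.card Z : ℝ) * s ≤
      ∑ g : G, ((Nat.card Z : ℝ) - 1) * (∑ z : Z, (χ : G → ℂ) (y g z)).re :=
    Finset.sum_le_sum fun g _ => h3 g
  rw [Finset.sum_const, Finset.card_univ, nsmul_eq_mul, ← Nat.card_eq_fintype_card,
    ← Finset.mul_sum, h2] at h4
  have h5 : (Nat.card G : ℝ) * ((Nat.card Z : ℝ) * s * d) ≤
      (Nat.card G : ℝ) * (((Nat.card Z : ℝ) - 1) * ((s + d) * (t + d) - Nat.card Z * t * d)) := by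
    have h6 := mul_le_mul_of_nonneg_right h4 hdpos.le
    have h7 : ((Nat.card Z : ℝ) - 1) * ((Nat.card G : ℝ) * ((s + d) * (t + d) / d -
        Nat.card Z * t)) * d = (Nat.card G : ℝ) * (((Nat.card Z : ℝ) - 1) *
        ((s + d) * (t + d) - Nat.card Z * t * d)) := by
      field_simp
    rw [h7] at h6
    linarith
  have h6 := le_of_mul_le_mul_left h5 hG
  -- factorization
  have h7 : 0 ≤ (((Nat.card Z : ℝ) - 1) * d - s) *
      ((Nat.card Z : ℝ) * d - ((Nat.card Z : ℝ) - 1) * (t + d)) := by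
    nlinarith
  by_contra hcon
  push Not at hcon
  have h8 : (((Nat.card Z : ℝ) - 1) * d - s) *
      ((Nat.card Z : ℝ) * d - ((Nat.card Z : ℝ) - 1) * (t + d)) < 0 :=
    mul_neg_of_pos_of_neg (by linarith) (by linarith)
  linarith

/-- The sum of the values over the principal block against `T W`. -/
theorem sum_T_conj {W Z : Subgroup G} [Fintype W] (h : HypB p W Z) {M : Ideal AlgInt}
    (hM : IsPModular p M) {z : G} (hz : z ∈ Z) (hz1 : z ≠ 1) :
    ∑ χ ∈ blk M G, T W (χ : G → ℂ) * conj ((χ : G → ℂ) z) =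
      ((Nat.card {w : W // IsConj z (w : G)} : ℂ)) *
        ((∑ χ ∈ blk M G, ‖(χ : G → ℂ) z‖ ^ 2 : ℝ) : ℂ) := by
  classical
  have hp : p.Prime := Fact.out
  have hzW : z ∈ W := h.le hz
  have h1 : ∀ w : W, ∑ χ ∈ blk M G, (χ : G → ℂ) w * conj ((χ : G → ℂ) z) =
      if IsConj z (w : G) then ((∑ χ ∈ blk M G, ‖(χ : G → ℂ) z‖ ^ 2 : ℝ) : ℂ) else 0 := by
    intro w
    split_ifs with hc
    · push_cast
      refine Finset.sum_congr rfl fun χ _ => ?_
      rw [← Blocks.Basic.irr_isConj χ.2 hc, Complex.mul_conj']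
    · have h1 := (S0925.result (G := G) p M hM).2 w z w z
        ⟨1, mul_one _, Commute.one_right _, orderOf_pow hp h.isP w.2, one_not_dvd hp⟩
        ⟨1, mul_one _, Commute.one_right _, orderOf_pow hp h.isP hzW, one_not_dvd hp⟩
        (fun h' => hc h'.symm) (principalBlock M G) (isPBlock_principal M)
      rw [finsum_blk M fun χ : IrrCharacter G => (χ : G → ℂ) w * (χ : G → ℂ) z⁻¹] at h1
      rw [← h1]
      refine Finset.sum_congr rfl fun χ _ => ?_
      rw [isCharacter_apply_inv (isIrr_isCharacter χ.2)]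
  have h2 : ∀ χ ∈ blk M G, T W (χ : G → ℂ) * conj ((χ : G → ℂ) z) =
      ∑ w : W, (χ : G → ℂ) w * conj ((χ : G → ℂ) z) - (χ : G → ℂ) 1 * conj ((χ : G → ℂ) z) := by
    intro χ _
    unfold T
    rw [sub_mul, Finset.sum_mul]
  rw [Finset.sum_congr rfl h2, Finset.sum_sub_distrib,
    orth hM (one_not_dvd hp) (dvd_orderOf hp h.isP hzW hz1), sub_zero, Finset.sum_comm,
    Finset.sum_congr rfl fun w _ => h1 w, ← Finset.sum_filter, Finset.sum_const, nsmul_eq_mul,
    Nat.card_eq_fintype_card, Fintype.card_subtype]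

/-- The main identity: `∑ |χ(z)|² (T_W + d)/d = δ m`. -/
theorem main_identity {W Z : Subgroup G} [Fintype W] [Fintype Z] (h : HypB p W Z) {M : Ideal AlgInt}
    (hM : IsPModular p M) {z : G} (hz : z ∈ Z) (hz1 : z ≠ 1) :
    ∑ χ ∈ blk M G, ‖(χ : G → ℂ) z‖ ^ 2 * (((T W (χ : G → ℂ)).re + ((χ : G → ℂ) 1).re) /
      ((χ : G → ℂ) 1).re) =
      (Nat.card {w : W // IsConj z (w : G)} : ℝ) * ∑ χ ∈ blk M G, ‖(χ : G → ℂ) z‖ ^ 2 := by
  classical
  have := Fintype.ofFinite G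
  have hp : p.Prime := Fact.out
  have hzW : z ∈ W := h.le hz
  have hG : (Nat.card G : ℂ) ≠ 0 := card_ne_zero_complex
  choose y hy1 hy2 using fun g => keyB h hM g
  have h1 : ∑ g : G, ∑ χ ∈ blk M G, (χ : G → ℂ) (y g ⟨z, hz⟩) * conj ((χ : G → ℂ) z) = 0 :=
    Finset.sum_eq_zero fun g _ => orth hM (hy1 g ⟨z, hz⟩) (dvd_orderOf hp h.isP hzW hz1)
  rw [Finset.sum_comm] at h1
  have h2 : ∀ χ ∈ blk M G, ∑ g : G, (χ : G → ℂ) (y g ⟨z, hz⟩) * conj ((χ : G → ℂ) z) =
      (Nat.card G : ℂ) * ((χ : G → ℂ) z * conj ((χ : G → ℂ) z) *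
        ((T W (χ : G → ℂ) + (χ : G → ℂ) 1) / (χ : G → ℂ) 1) -
        T W (χ : G → ℂ) * conj ((χ : G → ℂ) z)) := by
    intro χ hχ
    have h3 := sum_key (W := W) χ.2 z
    rw [Finset.sum_congr rfl fun g _ => (hy2 g χ (mem_blk.1 hχ)).1 ⟨z, hz⟩, Finset.sum_add_distrib,
      Finset.sum_const, Finset.card_univ, nsmul_eq_mul, ← Nat.card_eq_fintype_card] at h3
    rw [← Finset.sum_mul]
    linear_combination (conj ((χ : G → ℂ) z)) * h3
  rw [Finset.sum_congr rfl h2, ← Finset.mul_sum] at h1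
  have h3 := (mul_eq_zero.1 h1).resolve_left hG
  rw [Finset.sum_sub_distrib, sum_T_conj h hM hz hz1, sub_eq_zero] at h3
  have h4 : ((∑ χ ∈ blk M G, ‖(χ : G → ℂ) z‖ ^ 2 * (((T W (χ : G → ℂ)).re +
      ((χ : G → ℂ) 1).re) / ((χ : G → ℂ) 1).re) : ℝ) : ℂ) =
      (((Nat.card {w : W // IsConj z (w : G)} : ℝ) *
        ∑ χ ∈ blk M G, ‖(χ : G → ℂ) z‖ ^ 2 : ℝ) : ℂ) := by
    rw [Complex.ofReal_mul, Complex.ofReal_natCast, ← h3]
    push_cast
    refine Finset.sum_congr rfl fun χ _ => ?_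
    rw [Complex.mul_conj', ← T_ofReal W (isIrr_isCharacter χ.2)]
    obtain ⟨d, -, hd⟩ := isIrr_apply_one χ.2
    rw [hd]
    simp
  exact_mod_cast h4

/-- The norm of the principal block at `x` is at least the order of a `p`-subgroup of `C(x)`. -/
theorem norm_ge' {R : Subgroup G} (hR : IsPGroup p R) {M : Ideal AlgInt}
    (hM : IsPModular p M) {x : G} (hxp : ∃ k : ℕ, orderOf x = p ^ k) (hx1 : x ≠ 1)
    (hRC : ∀ r ∈ R, r * x = x * r) :
    (Nat.card R : ℝ) ≤ ∑ χ ∈ blk M G, ‖(χ : G → ℂ) x‖ ^ 2 := by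
  classical
  have hp : p.Prime := Fact.out
  set C : Subgroup G := Subgroup.centralizer ({x} : Set G) with hC
  have h1 := (S0947.result p M hM x hxp hx1 1 (by
    rw [orderOf_one]; intro h; exact hp.one_lt.ne' (Nat.dvd_one.1 h))).1
  rw [finsum_blk M fun ζ : IrrCharacter G => ‖(ζ : G → ℂ) (x * ((1 : C) : G))‖ ^ 2,
    finsum_blk M fun ζ : IrrCharacter C => ‖(ζ : C → ℂ) (1 : C)‖ ^ 2] at h1
  rw [Subgroup.coe_one, mul_one] at h1
  rw [h1]
  have hWC : R ≤ C := by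
    intro w hw
    rw [hC, Subgroup.mem_centralizer_singleton_iff]
    exact hRC w hw
  set W' : Subgroup C := R.subgroupOf C with hW'
  have : Fintype W' := Fintype.ofFinite _
  have hcard : Nat.card W' = Nat.card R := Nat.card_congr (Subgroup.subgroupOfEquivOfLe hWC).toEquiv
  have hW'p : IsPGroup p W' := hR.of_equiv (Subgroup.subgroupOfEquivOfLe hWC).symm
  have h2 : ∀ χ : IrrCharacter C, ∃ n d : ℕ, T W' (χ : C → ℂ) = (Nat.card W' : ℂ) * n - d ∧
      (χ : C → ℂ) 1 = d := by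
    intro χ
    obtain ⟨n, hn⟩ := Classification.RTwo.CoreKill.exists_sum_eq (isIrr_isCharacter χ.2) W'
    obtain ⟨d, hd⟩ := isCharacter_apply_one (isIrr_isCharacter χ.2)
    refine ⟨n, d, ?_, hd⟩
    unfold T
    rw [hn, hd]
  choose n d hn hd using h2
  have h3 := sum_mul_T hW'p hM (one_not_dvd (G := C) hp)
  have h4 : ∑ χ ∈ blk M C, ((d χ : ℂ) * d χ) = (Nat.card W' : ℂ) * ∑ χ ∈ blk M C, (d χ : ℂ) * n χ := by
    have h5 : ∀ χ ∈ blk M C, (χ : C → ℂ) 1 * T W' (χ : C → ℂ) =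
        (Nat.card W' : ℂ) * ((d χ : ℂ) * n χ) - d χ * d χ := by
      intro χ _
      rw [hn, hd]
      ring
    rw [Finset.sum_congr rfl h5, Finset.sum_sub_distrib, ← Finset.mul_sum] at h3
    linear_combination -h3
  have h5 : ∑ χ ∈ blk M C, (d χ * d χ) = Nat.card W' * ∑ χ ∈ blk M C, d χ * n χ := by
    exact_mod_cast h4
  have h6 : ∑ χ ∈ blk M C, ‖(χ : C → ℂ) 1‖ ^ 2 = ((∑ χ ∈ blk M C, (d χ * d χ) : ℕ) : ℝ) := by
    push_cast
    refine Finset.sum_congr rfl fun χ _ => ?_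
    rw [hd, Complex.norm_natCast]
    ring
  rw [h6, h5, ← hcard]
  have h7 : 1 ≤ ∑ χ ∈ blk M C, d χ * n χ := by
    have h8 : d (one C) * n (one C) ≤ ∑ χ ∈ blk M C, d χ * n χ :=
      Finset.single_le_sum (f := fun χ => d χ * n χ) (fun _ _ => Nat.zero_le _) (one_mem_blk hM)
    have h9 : d (one C) = 1 := by
      have := hd (one C)
      have h10 : ((one C : IrrCharacter C) : C → ℂ) 1 = 1 := rfl
      rw [h10] at this
      exact_mod_cast this.symm
    have h10 : n (one C) = 1 := by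
      have h11 := hn (one C)
      have h12 : T W' ((one C : IrrCharacter C) : C → ℂ) = (Nat.card W' : ℂ) - 1 := by
        unfold T
        show ∑ w : W', (1 : ℂ) - 1 = _
        rw [Finset.sum_const, Finset.card_univ, nsmul_eq_mul, ← Nat.card_eq_fintype_card, mul_one]
      rw [h12, h9] at h11
      have h13 : (Nat.card W' : ℂ) * 1 = (Nat.card W' : ℂ) * n (one C) := by
        push_cast at h11
        linear_combination h11
      have h14 := mul_left_cancel₀ card_ne_zero_complex h13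
      exact_mod_cast h14.symm
    rw [h9, h10] at h8
    exact h8
  have h8 : Nat.card W' * 1 ≤ Nat.card W' * ∑ χ ∈ blk M C, d χ * n χ := Nat.mul_le_mul_left _ h7
  rw [mul_one] at h8
  exact_mod_cast h8

/-- The fusion inequality. -/
theorem fusion_ineq {W Z : Subgroup G} (h : HypB p W Z) {M : Ideal AlgInt}
    (hM : IsPModular p M) (hcl : Subgroup.normalClosure (Z : Set G) = ⊤)
    {z : G} (hz : z ∈ Z) (hz1 : z ≠ 1) :
    ((Nat.card Z : ℝ) - 1) * ((Nat.card {w : W // IsConj z (w : G)} : ℝ) *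
      (∑ χ ∈ blk M G, ‖(χ : G → ℂ) z‖ ^ 2) - Nat.card W) ≤
      (Nat.card Z : ℝ) * ((∑ χ ∈ blk M G, ‖(χ : G → ℂ) z‖ ^ 2) - 1) := by
  classical
  have := Fintype.ofFinite W
  have := Fintype.ofFinite Z
  have hp : p.Prime := Fact.out
  have h1 := main_identity h hM hz hz1
  have hone := one_mem_blk (G := G) hM
  set m := ∑ χ ∈ blk M G, ‖(χ : G → ℂ) z‖ ^ 2 with hm
  have hZ1 : (1 : ℝ) ≤ Nat.card Z := by exact_mod_cast Nat.card_pos
  have hT1r : (T W ((one G : IrrCharacter G) : G → ℂ)).re = (Nat.card W : ℝ) - 1 := by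
    have : T W ((one G : IrrCharacter G) : G → ℂ) = (Nat.card W : ℂ) - 1 := by
      unfold T
      show ∑ w : W, (1 : ℂ) - 1 = _
      rw [Finset.sum_const, Finset.card_univ, nsmul_eq_mul, ← Nat.card_eq_fintype_card, mul_one]
    rw [this]
    simp
  have hone1 : ∀ g : G, ((one G : IrrCharacter G) : G → ℂ) g = 1 := fun g => rfl
  rw [← Finset.add_sum_erase _ _ hone, hT1r, hone1, hone1] at h1
  have hm1 : m = 1 + ∑ χ ∈ (blk M G).erase (one G), ‖(χ : G → ℂ) z‖ ^ 2 := by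
    rw [hm, ← Finset.add_sum_erase _ _ hone, hone1]
    simp
  have h2 : ((Nat.card Z : ℝ) - 1) * ∑ χ ∈ (blk M G).erase (one G), ‖(χ : G → ℂ) z‖ ^ 2 *
      (((T W (χ : G → ℂ)).re + ((χ : G → ℂ) 1).re) / ((χ : G → ℂ) 1).re) ≤
      (Nat.card Z : ℝ) * ∑ χ ∈ (blk M G).erase (one G), ‖(χ : G → ℂ) z‖ ^ 2 := by
    rw [Finset.mul_sum, Finset.mul_sum]
    apply Finset.sum_le_sum
    intro χ hχ
    obtain ⟨d, hd0, hd⟩ := isIrr_apply_one χ.2
    have hα := alpha_le h hM hcl (Finset.mem_of_mem_erase hχ) (Finset.ne_of_mem_erase hχ) hd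
    rw [hd, Complex.natCast_re]
    have hd' : (0 : ℝ) < d := by exact_mod_cast hd0
    have h3 : ((Nat.card Z : ℝ) - 1) * (((T W (χ : G → ℂ)).re + d) / d) ≤ Nat.card Z := by
      rw [← mul_div_assoc, div_le_iff₀ hd']
      exact hα
    have h4 : 0 ≤ ‖(χ : G → ℂ) z‖ ^ 2 := sq_nonneg _
    nlinarith [mul_le_mul_of_nonneg_left h3 h4]
  have h3 : ∑ χ ∈ (blk M G).erase (one G), ‖(χ : G → ℂ) z‖ ^ 2 *
      (((T W (χ : G → ℂ)).re + ((χ : G → ℂ) 1).re) / ((χ : G → ℂ) 1).re) =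
      (Nat.card {w : W // IsConj z (w : G)} : ℝ) * m - Nat.card W := by
    rw [← h1]
    simp
  have h4 : ∑ χ ∈ (blk M G).erase (one G), ‖(χ : G → ℂ) z‖ ^ 2 = m - 1 := by
    rw [hm1]
    ring
  rw [h3, h4] at h2
  exact h2

/-- No fusion of `z` in `W` for `|Z| ≥ 3` and a large centralizer. -/
theorem no_fusionB {W Z : Subgroup G} (h : HypB p W Z) {M : Ideal AlgInt}
    (hM : IsPModular p M) (hcl : Subgroup.normalClosure (Z : Set G) = ⊤)
    (hZ3 : 3 ≤ Nat.card Z) {R : Subgroup G} (hR : IsPGroup p R) (hRW : 2 * Nat.card W ≤ Nat.card R)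
    {z : G} (hz : z ∈ Z) (hz1 : z ≠ 1) (hRz : ∀ r ∈ R, r * z = z * r) :
    ∀ w ∈ W, IsConj z w → w = z := by
  classical
  have hp : p.Prime := Fact.out
  by_contra hcon
  push Not at hcon
  obtain ⟨w, hw, hcw, hne⟩ := hcon
  have h1 := fusion_ineq h hM hcl hz hz1
  have h2 := norm_ge' hR hM (orderOf_pow hp h.isP (h.le hz)) hz1 hRz
  set m := ∑ χ ∈ blk M G, ‖(χ : G → ℂ) z‖ ^ 2 with hm
  have hδ : (2 : ℝ) ≤ (Nat.card {w : W // IsConj z (w : G)} : ℝ) := by
    have h3 : 1 < Nat.card {w : W // IsConj z (w : G)} := by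
      rw [Finite.one_lt_card_iff_nontrivial]
      exact ⟨⟨⟨⟨w, hw⟩, hcw⟩, ⟨⟨z, h.le hz⟩, IsConj.refl z⟩, fun h' =>
        hne (congrArg (fun q => ((q : {w : W // IsConj z (w : G)}) : W).1) h')⟩⟩
    exact_mod_cast h3
  have h3 : (3 : ℝ) ≤ Nat.card Z := by exact_mod_cast hZ3
  have h4 : 2 * (Nat.card W : ℝ) ≤ Nat.card R := by exact_mod_cast hRW
  have h5 : (1 : ℝ) ≤ Nat.card W := by exact_mod_cast Nat.card_pos
  have h6 : (Nat.card W : ℝ) ≤ m / 2 := by linarith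
  have h7 : 2 * m ≤ (Nat.card {w : W // IsConj z (w : G)} : ℝ) * m :=
    mul_le_mul_of_nonneg_right hδ (by linarith)
  have h8 : ((Nat.card Z : ℝ) - 1) * (2 * m - m / 2) ≤
      ((Nat.card Z : ℝ) - 1) * ((Nat.card {w : W // IsConj z (w : G)} : ℝ) * m - Nat.card W) :=
    mul_le_mul_of_nonneg_left (by linarith) (by linarith)
  nlinarith

/-- At most two conjugates of `z` in `W` for `|Z| = 2`. -/
theorem fusion_two {W Z : Subgroup G} (h : HypB p W Z) {M : Ideal AlgInt}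
    (hM : IsPModular p M) (hcl : Subgroup.normalClosure (Z : Set G) = ⊤)
    (hZ2 : Nat.card Z = 2) {R : Subgroup G} (hR : IsPGroup p R) (hRW : Nat.card W ≤ Nat.card R)
    {z : G} (hz : z ∈ Z) (hz1 : z ≠ 1) (hRz : ∀ r ∈ R, r * z = z * r) :
    Nat.card {w : W // IsConj z (w : G)} ≤ 2 := by
  classical
  have hp : p.Prime := Fact.out
  by_contra hcon
  push Not at hcon
  have h1 := fusion_ineq h hM hcl hz hz1
  have h2 := norm_ge' hR hM (orderOf_pow hp h.isP (h.le hz)) hz1 hRz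
  set m := ∑ χ ∈ blk M G, ‖(χ : G → ℂ) z‖ ^ 2 with hm
  have hδ : (3 : ℝ) ≤ (Nat.card {w : W // IsConj z (w : G)} : ℝ) := by exact_mod_cast hcon
  have h4 : (Nat.card W : ℝ) ≤ Nat.card R := by exact_mod_cast hRW
  have h5 : (1 : ℝ) ≤ Nat.card W := by exact_mod_cast Nat.card_pos
  rw [hZ2] at h1
  have h7 : 3 * m ≤ (Nat.card {w : W // IsConj z (w : G)} : ℝ) * m :=
    mul_le_mul_of_nonneg_right hδ (by linarith)
  push_cast at h1
  linarith

/-- Multiplicativity for an element of `Z` not fused in `W`. -/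
theorem multB {W Z : Subgroup G} (h : HypB p W Z) {M : Ideal AlgInt} (hM : IsPModular p M)
    {z : G} (hz : z ∈ Z) (hnf : ∀ w ∈ W, IsConj z w → w = z) {χ : IrrCharacter G}
    (hχ : χ ∈ principalBlock M G) {x : G} (hx : x ∈ W) (hxz : z * x ≠ 1) :
    (χ : G → ℂ) z * (χ : G → ℂ) x = (χ : G → ℂ) 1 * (χ : G → ℂ) (z * x) := by
  apply S0943.result
  intro z' x' hz' hx'
  obtain ⟨a, rfl⟩ := isConj_iff.1 hz'
  obtain ⟨b, rfl⟩ := isConj_iff.1 hx'
  obtain ⟨K, hK, hWK, hbal, k, hk, hkg⟩ := h.exK (a⁻¹ * b)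
  have h1 := hkg z hz
  set n : G := (a⁻¹ * b) * k with hn
  have h2 : n⁻¹ * z * n = z := by
    apply hnf _ h1
    exact isConj_iff.2 ⟨n⁻¹, by rw [inv_inv]⟩
  have h4 : a * z * a⁻¹ * (b * x * b⁻¹) = b * (((a⁻¹ * b)⁻¹ * z * (a⁻¹ * b)) * x) * b⁻¹ := by group
  have h5 : (a⁻¹ * b)⁻¹ * z * (a⁻¹ * b) = k * z * k⁻¹ := by
    have : (a⁻¹ * b)⁻¹ * z * (a⁻¹ * b) = k * (n⁻¹ * z * n) * k⁻¹ := by rw [hn]; group
    rw [this, h2]
  rw [h4, Blocks.Basic.irr_conj χ.2, h5]
  have h6 := val hM h.isP h.ab hK hWK hbal hχ (K.inv_mem hk) (h.le hz) hx hxz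
  rwa [inv_inv] at h6

/-- Nonvanishing at an element centralized by a Sylow `p`-subgroup. -/
theorem apply_ne_zero' (P : Sylow p G) {M : Ideal AlgInt} (hM : IsPModular p M) {χ : IrrCharacter G}
    (hχ : χ ∈ principalBlock M G) {w : G} (hw : ∀ r ∈ (P : Subgroup G), r * w = w * r) :
    (χ : G → ℂ) w ≠ 0 := by
  intro h0
  have h1 := hχ w
  simp only [Blocks.Basic.centralChar_def, h0, mul_zero, zero_div, sub_zero, mul_one, div_one] at h1
  rw [Blocks.Local.memLocalIdeal_natCast_iff hM] at h1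
  have hle : (P : Subgroup G) ≤ Subgroup.centralizer ({w} : Set G) := by
    intro g hg
    rw [Subgroup.mem_centralizer_singleton_iff]
    exact hw g hg
  exact P.not_dvd_index (h1.trans (Subgroup.index_dvd_of_le hle))

/-- **Theorem B.** -/
theorem falseB [IsSimpleGroup G] (hG : ¬ ∀ a b : G, a * b = b * a) {W Z : Subgroup G}
    (h : HypB p W Z) (hZ3 : 3 ≤ Nat.card Z) (P : Sylow p G)
    (hPZ : ∀ r ∈ (P : Subgroup G), ∀ z ∈ Z, r * z = z * r)
    (hPW : 2 * Nat.card W ≤ Nat.card (P : Subgroup G)) : False := by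
  classical
  have hp : p.Prime := Fact.out
  obtain ⟨M, hM⟩ := Blocks.ExistsModular.exists_isPModular hp
  have hZb : Z ≠ ⊥ := by
    rintro rfl
    rw [Subgroup.card_bot] at hZ3
    omega
  have hcl : Subgroup.normalClosure (Z : Set G) = ⊤ := by
    rcases IsSimpleGroup.eq_bot_or_eq_top_of_normal (Subgroup.normalClosure (Z : Set G))
      inferInstance with h1 | h1
    · exfalso
      apply hZb
      rw [eq_bot_iff, ← h1]
      exact Subgroup.le_normalClosure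
    · exact h1
  have hnf : ∀ z ∈ Z, z ≠ 1 → ∀ w ∈ W, IsConj z w → w = z := fun z hz hz1 =>
    no_fusionB h hM hcl hZ3 P.isPGroup' hPW hz hz1 fun r hr => hPZ r hr z hz
  obtain ⟨⟨z, hz⟩, hz2⟩ := Subgroup.ne_bot_iff_exists_ne_one.1 hZb
  have hz1 : z ≠ 1 := fun h => hz2 (Subtype.ext h)
  -- choose `y`
  obtain ⟨y, hy, hy1, hyx⟩ : ∃ y ∈ Z, y ≠ 1 ∧ y ≠ z⁻¹ := by
    by_contra hcon
    push Not at hcon
    have := Fintype.ofFinite Z
    have h1 : (Finset.univ : Finset Z) ⊆ {1, ⟨z⁻¹, Z.inv_mem hz⟩} := by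
      intro y _
      rw [Finset.mem_insert, Finset.mem_singleton]
      by_cases hy1 : (y : G) = 1
      · exact Or.inl (Subtype.ext hy1)
      · exact Or.inr (Subtype.ext (hcon y y.2 hy1))
    have h2 := Finset.card_le_card h1
    rw [Finset.card_univ, ← Nat.card_eq_fintype_card] at h2
    have h3 := Finset.card_le_two (a := (1 : Z)) (b := ⟨z⁻¹, Z.inv_mem hz⟩)
    omega
  have hxy1 : z * y ≠ 1 := fun h' => hyx (eq_inv_of_mul_eq_one_right h')
  have hnorm : ∀ χ ∈ principalBlock M G, ∀ d : ℕ, (χ : G → ℂ) 1 = d → ‖(χ : G → ℂ) z‖ = d := by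
    intro χ hχ d hd
    have e1 := multB h hM hz (hnf z hz hz1) hχ (h.le hy) hxy1
    have e2 := multB h hM (Z.inv_mem hz) (hnf z⁻¹ (Z.inv_mem hz) (inv_ne_one.2 hz1)) hχ
      (W.mul_mem (h.le hz) (h.le hy)) (by rwa [inv_mul_cancel_left])
    rw [inv_mul_cancel_left] at e2
    have hy0 := apply_ne_zero' P hM hχ (w := y) fun r hr => hPZ r hr y hy
    rw [isCharacter_apply_inv (isIrr_isCharacter χ.2)] at e2
    have e3 : conj ((χ : G → ℂ) z) * (χ : G → ℂ) z = (d : ℂ) * d := by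
      rw [hd] at e1 e2
      have h1 : (conj ((χ : G → ℂ) z) * (χ : G → ℂ) z - (d : ℂ) * d) * (χ : G → ℂ) y = 0 := by
        linear_combination (conj ((χ : G → ℂ) z)) * e1 + (d : ℂ) * e2
      rcases mul_eq_zero.1 h1 with h2 | h2
      · exact sub_eq_zero.1 h2
      · exact absurd h2 hy0
    rw [mul_comm, Complex.mul_conj'] at e3
    have e4 : ‖(χ : G → ℂ) z‖ ^ 2 = (d : ℝ) ^ 2 := by
      rw [pow_two (d : ℝ)]
      exact_mod_cast e3
    exact (pow_left_inj₀ (norm_nonneg _) (Nat.cast_nonneg d) two_ne_zero).1 e4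
  -- commutators are in the kernel
  obtain ⟨K, hKn, hK, hKp, -, -⟩ := S0938.result p M hM (principalBlock M G) (isPBlock_principal M)
    (one G) (mem_blk.1 (one_mem_blk hM))
  have hKb : K = ⊥ := by
    rcases IsSimpleGroup.eq_bot_or_eq_top_of_normal K hKn with h2 | h2
    · exact h2
    · exfalso
      rw [h2] at hKp
      have h3 : p ∣ Nat.card (⊤ : Subgroup G) := by
        rw [Subgroup.card_top]
        exact (dvd_orderOf hp h.isP (h.le hz) hz1).trans (orderOf_dvd_natCard z)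
      exact hKp h3
  have hcomm : ∀ g : G, z * g * z⁻¹ * g⁻¹ = 1 := by
    intro g
    have h0 : z * g * z⁻¹ * g⁻¹ ∈ (K : Set G) := by
      rw [hK]
      intro χ hχ
      obtain ⟨d, -, hd⟩ := isIrr_apply_one χ.2
      have h1 := hnorm χ hχ d hd
      obtain ⟨χ, n, ρ, hρ, rfl⟩ := χ
      simp only at h1 hd ⊢
      have h2 : ρ.character 1 = (Module.finrank ℂ (Fin n → ℂ) : ℂ) := by
        rw [Representation.char_one]
      have h3 : (d : ℝ) = (Module.finrank ℂ (Fin n → ℂ) : ℝ) := by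
        have : (d : ℂ) = (Module.finrank ℂ (Fin n → ℂ) : ℂ) := by rw [← hd, h2]
        exact_mod_cast this
      rw [h3] at h1
      obtain ⟨c, hc⟩ := (Values.norm_character_eq_iff ρ z).1 h1
      have h4 : z * g = (z * g * z⁻¹ * g⁻¹) * (g * z) := by group
      have h5 : ρ (z * g * z⁻¹ * g⁻¹) * ρ (g * z) = ρ (g * z) := by
        rw [← map_mul, ← h4, map_mul, map_mul, hc]
        ext v
        simp
      have h6 : ρ (g * z) * ρ (g * z)⁻¹ = 1 := by rw [← map_mul, mul_inv_cancel, map_one]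
      have h7 : ρ (z * g * z⁻¹ * g⁻¹) = 1 := by
        calc ρ (z * g * z⁻¹ * g⁻¹) = ρ (z * g * z⁻¹ * g⁻¹) * (ρ (g * z) * ρ (g * z)⁻¹) := by
              rw [h6, mul_one]
          _ = 1 := by rw [← mul_assoc, h5, h6]
      have h8 : ρ (z * g * z⁻¹ * g⁻¹) = ρ 1 := by rw [h7, map_one ρ]
      rw [Representation.character, Representation.character, h8]
    rw [hKb] at h0
    exact h0
  have hzc : z ∈ Subgroup.center G := by
    rw [Subgroup.mem_center_iff]
    intro g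
    have h3 : z * g * z⁻¹ = g := mul_inv_eq_one.1 (hcomm g)
    exact (mul_inv_eq_iff_eq_mul.1 h3).symm
  rcases IsSimpleGroup.eq_bot_or_eq_top_of_normal (Subgroup.center G) inferInstance with h2 | h2
  · rw [h2] at hzc
    exact hz1 (Subgroup.mem_bot.1 hzc)
  · apply hG
    intro a b
    have : b ∈ Subgroup.center G := by rw [h2]; trivial
    exact Subgroup.mem_center_iff.1 this a

end Cfsg.Agent.H267.ThmA
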