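import Mathlib
import Cfsg.Agent.H267.ThmC1

/-!
# Theorem C, part 2: all characters in the principal block have large degrees
-/

set_option autoImplicit false

namespace Cfsg.Agent.H267.ThmC

open Cfsg Cfsg.Agent.Characters Cfsg.Agent.Characters.Core Cfsg.Agent.H267.ThmA Cfsg.Agent.H267.Invar
open scoped ComplexConjugate

/-- the numerical contradiction of case A -/
theorem numericA (P m G N : ℝ) (hG : 0 < G) (hP : 9 ≤ P)
    (hm : (m = 1 ∧ 2 * N ≤ G) ∨ (2 ≤ m ∧ 2 * m ≤ P ∧ N ≤ G))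
    (h : P * (m * G - N) ≤ G * (m ^ 2 + (1 / 3) * (P * m - m ^ 2))) : False := by
  rcases hm with ⟨rfl, hN⟩ | ⟨h2, h3, hN⟩
  · have h4 : P * (G / 2) ≤ P * (1 * G - N) := by
      apply mul_le_mul_of_nonneg_left _ (by linarith)
      linarith
    have h5 : P * (G / 2) ≤ G * (1 ^ 2 + (1 / 3) * (P * 1 - 1 ^ 2)) := h4.trans h
    nlinarith
  · have h4 : P * ((m - 1) * G) ≤ P * (m * G - N) := by
      apply mul_le_mul_of_nonneg_left _ (by linarith)
      linarith
    have h5 : G * (P * (m - 1)) ≤ G * (m ^ 2 + (1 / 3) * (P * m - m ^ 2)) := by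
      calc G * (P * (m - 1)) = P * ((m - 1) * G) := by ring
        _ ≤ _ := h4
        _ ≤ _ := h
    have h6 := le_of_mul_le_mul_left h5 hG
    have h7 : P * (2 * m - 3) ≤ 2 * m ^ 2 := by nlinarith
    rcases le_or_gt 3 m with h8 | h8
    · have h9 : 2 * m * (2 * m - 3) ≤ P * (2 * m - 3) :=
        mul_le_mul_of_nonneg_right h3 (by linarith)
      have h10 : 2 * m * (2 * m - 3) ≤ 2 * m * m := by nlinarith
      have h11 : 2 * m - 3 ≤ m := le_of_mul_le_mul_left h10 (by linarith)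
      have h12 : m = 3 := by linarith
      subst h12
      linarith
    · have h9 : 9 * (2 * m - 3) ≤ P * (2 * m - 3) :=
        mul_le_mul_of_nonneg_right hP (by linarith)
      nlinarith

variable {G : Type*} [Group G] [Finite G] {p : ℕ} [Fact p.Prime]

/-- the norm of the principal block at elements of `Ω₁(Z(P))` -/
theorem norm_Zc {P : Sylow p G} (h : HypC p P) {M : Ideal AlgInt} (hM : IsPModular p M) {x : G}
    (hx : x ∈ Zc p (P : Subgroup G)) (hx1 : x ≠ 1) :
    ∑ χ ∈ blk M G, (χ : G → ℂ) x * conj ((χ : G → ℂ) x) = (Nat.card (P : Subgroup G) : ℂ) := by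
  have hp : p.Prime := Fact.out
  have hxo := orderOf_Zc hp hx hx1
  have h1 := (S0947.result p M hM x ⟨1, by rw [hxo, pow_one]⟩ hx1 1 (by
    rw [orderOf_one]; intro h; exact hp.one_lt.ne' (Nat.dvd_one.1 h))).2
      (H30.OneClass.index_pPrimeCore (h.nil x hxo))
  rw [finsum_blk M fun ζ : IrrCharacter G =>
    ‖(ζ : G → ℂ) (x * ((1 : Subgroup.centralizer ({x} : Set G)) : G))‖ ^ 2] at h1
  rw [Subgroup.coe_one, mul_one] at h1
  set C : Subgroup G := Subgroup.centralizer ({x} : Set G) with hC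
  have hle : (P : Subgroup G) ≤ C := by
    intro r hr
    rw [hC, Subgroup.mem_centralizer_singleton_iff]
    exact hx.2.1 r hr
  have h2 : p ^ (Nat.card C).factorization p = Nat.card (P : Subgroup G) := by
    rw [Sylow.card_eq_multiplicity P]
    congr 1
    apply le_antisymm
    · exact (Nat.factorization_le_iff_dvd Nat.card_pos.ne' Nat.card_pos.ne').2
        (Subgroup.card_subgroup_dvd_card C) p
    · have h3 : Nat.card (P : Subgroup G) ∣ Nat.card C := Subgroup.card_dvd_of_le hle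
      rw [Sylow.card_eq_multiplicity P] at h3
      exact (hp.pow_dvd_iff_le_factorization Nat.card_pos.ne').1 h3
  rw [h2] at h1
  have h3 : ∑ χ ∈ blk M G, (χ : G → ℂ) x * conj ((χ : G → ℂ) x) =
      ((∑ χ ∈ blk M G, ‖(χ : G → ℂ) x‖ ^ 2 : ℝ) : ℂ) := by
    push_cast
    exact Finset.sum_congr rfl fun χ _ => Complex.mul_conj' _
  rw [h3, h1]
  norm_num

/-- orthogonality of nonconjugate elements of `Ω₁(Z(P))` -/
theorem cross_Zc {P : Sylow p G} {M : Ideal AlgInt} (hM : IsPModular p M) {x y : G}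
    (hx : x ∈ Zc p (P : Subgroup G)) (hx1 : x ≠ 1) (hy : y ∈ Zc p (P : Subgroup G)) (hy1 : y ≠ 1)
    (hc : ¬ IsConj x y) :
    ∑ χ ∈ blk M G, (χ : G → ℂ) x * conj ((χ : G → ℂ) y) = 0 := by
  have hp : p.Prime := Fact.out
  have h1 := (S0925.result (G := G) p M hM).2 x y x y
    ⟨1, mul_one _, Commute.one_right _, ⟨1, by rw [orderOf_Zc hp hx hx1, pow_one]⟩, one_not_dvd hp⟩
    ⟨1, mul_one _, Commute.one_right _, ⟨1, by rw [orderOf_Zc hp hy hy1, pow_one]⟩, one_not_dvd hp⟩ hc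
    (principalBlock M G) (isPBlock_principal M)
  rw [finsum_blk M fun χ : IrrCharacter G => (χ : G → ℂ) x * (χ : G → ℂ) y⁻¹] at h1
  rw [← h1]
  refine Finset.sum_congr rfl fun χ _ => ?_
  rw [isCharacter_apply_inv (isIrr_isCharacter χ.2)]

open Classical in
/-- the nontrivial elements of `Ω₁(Z(P))` -/
noncomputable def E (p : ℕ) (P : Subgroup G) [Fintype G] : Finset G :=
  Finset.univ.filter fun z => z ∈ Zc p P ∧ z ≠ 1

open Classical in
/-- the number of conjugates of `z` in `Ω₁(Z(P))` -/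
noncomputable def num (p : ℕ) (P : Subgroup G) [Fintype G] (z : G) : ℕ :=
  ((E p P).filter fun v => IsConj z v).card

/-- the class sum -/
noncomputable def F (p : ℕ) (P : Subgroup G) [Fintype G] (χ : G → ℂ) : ℂ :=
  ∑ z ∈ E p P, ((num p P z : ℝ)⁻¹ : ℂ) * χ z

omit [Finite G] [Fact p.Prime] in
theorem mem_E {P : Subgroup G} [Fintype G] {z : G} : z ∈ E p P ↔ z ∈ Zc p P ∧ z ≠ 1 := by
  classical
  unfold E
  rw [Finset.mem_filter]
  exact ⟨fun h => h.2, fun h => ⟨Finset.mem_univ _, h⟩⟩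

omit [Finite G] [Fact p.Prime] in
theorem num_eq {P : Subgroup G} [Fintype G] {z w : G} (h : IsConj z w) : num p P z = num p P w := by
  classical
  unfold num
  congr 1
  ext v
  rw [Finset.mem_filter, Finset.mem_filter]
  exact ⟨fun h1 => ⟨h1.1, h.symm.trans h1.2⟩, fun h1 => ⟨h1.1, h.trans h1.2⟩⟩

omit [Finite G] [Fact p.Prime] in
theorem num_pos {P : Subgroup G} [Fintype G] {z : G} (h : z ∈ E p P) : 0 < num p P z := by
  classical
  unfold num
  rw [Finset.card_pos]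
  exact ⟨z, Finset.mem_filter.2 ⟨h, IsConj.refl z⟩⟩

open Classical in
omit [Finite G] [Fact p.Prime] in
theorem sum_class {P : Subgroup G} [Fintype G] {s : G} (h : s ∈ E p P) :
    ∑ z ∈ (E p P).filter (fun v => IsConj s v), ((num p P z : ℝ)⁻¹) = 1 := by
  have h1 : ∀ z ∈ (E p P).filter (fun v => IsConj s v), ((num p P z : ℝ)⁻¹) = (num p P s : ℝ)⁻¹ := by
    intro z hz
    rw [num_eq (Finset.mem_filter.1 hz).2]
  rw [Finset.sum_congr rfl h1, Finset.sum_const, nsmul_eq_mul]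
  have h2 : (0 : ℝ) < num p P s := by exact_mod_cast num_pos h
  show (num p P s : ℝ) * _ = 1
  exact mul_inv_cancel₀ h2.ne'

theorem sum_mul_F {P : Sylow p G} [Fintype G] (h : HypC p P) {M : Ideal AlgInt} (hM : IsPModular p M)
    {s : G} (hs : s ∈ Zc p (P : Subgroup G)) (hs1 : s ≠ 1) :
    ∑ χ ∈ blk M G, (χ : G → ℂ) s * conj (F p (P : Subgroup G) (χ : G → ℂ)) =
      (Nat.card (P : Subgroup G) : ℂ) := by
  classical
  have h1 : ∀ χ ∈ blk M G, (χ : G → ℂ) s * conj (F p (P : Subgroup G) (χ : G → ℂ)) =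
      ∑ z ∈ E p (P : Subgroup G), ((num p (P : Subgroup G) z : ℝ)⁻¹ : ℂ) *
        ((χ : G → ℂ) s * conj ((χ : G → ℂ) z)) := by
    intro χ _
    unfold F
    rw [map_sum, Finset.mul_sum]
    refine Finset.sum_congr rfl fun z _ => ?_
    rw [map_mul, map_inv₀, Complex.conj_ofReal]
    ring
  rw [Finset.sum_congr rfl h1, Finset.sum_comm]
  have h2 : ∀ z ∈ E p (P : Subgroup G), ∑ χ ∈ blk M G, ((num p (P : Subgroup G) z : ℝ)⁻¹ : ℂ) *
        ((χ : G → ℂ) s * conj ((χ : G → ℂ) z)) =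
      if IsConj s z then (((num p (P : Subgroup G) z : ℝ)⁻¹ : ℝ) : ℂ) * (Nat.card (P : Subgroup G) : ℂ)
        else 0 := by
    intro z hz
    rw [← Finset.mul_sum]
    by_cases hc : IsConj s z
    · rw [if_pos hc]
      have h3 : ∑ χ ∈ blk M G, (χ : G → ℂ) s * conj ((χ : G → ℂ) z) =
          ∑ χ ∈ blk M G, (χ : G → ℂ) s * conj ((χ : G → ℂ) s) :=
        Finset.sum_congr rfl fun χ _ => by rw [Blocks.Basic.irr_isConj χ.2 hc]
      rw [h3, norm_Zc h hM hs hs1, Complex.ofReal_inv]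
    · rw [if_neg hc, cross_Zc hM hs hs1 (mem_E.1 hz).1 (mem_E.1 hz).2 hc, mul_zero]
  rw [Finset.sum_congr rfl h2, ← Finset.sum_filter, ← Finset.sum_mul, ← Complex.ofReal_sum,
    sum_class (mem_E.2 ⟨hs, hs1⟩), Complex.ofReal_one, one_mul]

theorem sum_mul_F_of_not_dvd {P : Sylow p G} [Fintype G] {M : Ideal AlgInt} (hM : IsPModular p M)
    {y : G} (hy : ¬ p ∣ orderOf y) :
    ∑ χ ∈ blk M G, (χ : G → ℂ) y * conj (F p (P : Subgroup G) (χ : G → ℂ)) = 0 := by
  classical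
  have hp : p.Prime := Fact.out
  have h1 : ∀ χ ∈ blk M G, (χ : G → ℂ) y * conj (F p (P : Subgroup G) (χ : G → ℂ)) =
      ∑ z ∈ E p (P : Subgroup G), ((num p (P : Subgroup G) z : ℝ)⁻¹ : ℂ) *
        ((χ : G → ℂ) y * conj ((χ : G → ℂ) z)) := by
    intro χ _
    unfold F
    rw [map_sum, Finset.mul_sum]
    refine Finset.sum_congr rfl fun z _ => ?_
    rw [map_mul, map_inv₀, Complex.conj_ofReal]
    ring
  rw [Finset.sum_congr rfl h1, Finset.sum_comm]
  refine Finset.sum_eq_zero fun z hz => ?_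
  rw [← Finset.mul_sum, orth hM hy (by rw [orderOf_Zc hp (mem_E.1 hz).1 (mem_E.1 hz).2]), mul_zero]

/-- the number of `g` with `x (g z g⁻¹)` of order prime to `p` -/
noncomputable def ν (p : ℕ) [Fintype G] (x z : G) : ℕ := by
  classical
  exact (Finset.univ.filter fun g : G => ¬ p ∣ orderOf (x * (g * z * g⁻¹))).card

theorem ν_le [Fintype G] (x z : G) : ν p x z ≤ Nat.card G := by
  classical
  unfold ν
  rw [Nat.card_eq_fintype_card]
  exact Finset.card_le_univ _

theorem ν_conj [Fintype G] (x : G) {z w : G} (h : IsConj z w) : ν p x z = ν p x w := by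
  classical
  obtain ⟨a, rfl⟩ := isConj_iff.1 h
  unfold ν
  refine Finset.card_bij (fun g _ => g * a⁻¹) ?_ ?_ ?_
  · intro g hg
    rw [Finset.mem_filter] at hg ⊢
    refine ⟨Finset.mem_univ _, ?_⟩
    have : x * (g * a⁻¹ * (a * z * a⁻¹) * (g * a⁻¹)⁻¹) = x * (g * z * g⁻¹) := by group
    rw [this]
    exact hg.2
  · intro g _ g' _ h
    exact mul_right_cancel h
  · intro g hg
    rw [Finset.mem_filter] at hg
    refine ⟨g * a, ?_, by group⟩
    rw [Finset.mem_filter]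
    refine ⟨Finset.mem_univ _, ?_⟩
    have : x * (g * a * z * (g * a)⁻¹) = x * (g * (a * z * a⁻¹) * g⁻¹) := by group
    rw [this]
    exact hg.2

/-- the sum over `G` and the principal block -/
theorem sum_sum {P : Sylow p G} [Fintype G] (h : HypC p P) {M : Ideal AlgInt} (hM : IsPModular p M)
    {x z : G} (hx : x ∈ Zc p (P : Subgroup G)) (hx1 : x ≠ 1)
    (hz : z ∈ Zc p (P : Subgroup G)) (hz1 : z ≠ 1) :
    ∑ χ ∈ blk M G, (χ : G → ℂ) x * (χ : G → ℂ) z / (χ : G → ℂ) 1 *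
      conj (F p (P : Subgroup G) (χ : G → ℂ)) * (Nat.card G : ℂ) =
      (Nat.card (P : Subgroup G) : ℂ) * ((Nat.card G : ℂ) - ν p x z) := by
  classical
  have hp : p.Prime := Fact.out
  have h1 : ∀ χ ∈ blk M G, (χ : G → ℂ) x * (χ : G → ℂ) z / (χ : G → ℂ) 1 *
      conj (F p (P : Subgroup G) (χ : G → ℂ)) * (Nat.card G : ℂ) =
      ∑ g : G, (χ : G → ℂ) (x * (g * z * g⁻¹)) * conj (F p (P : Subgroup G) (χ : G → ℂ)) := by
    intro χ _
    rw [← Finset.sum_mul]
    have h2 : ∑ g : G, (χ : G → ℂ) (x * (g * z * g⁻¹)) =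
        (Nat.card G : ℂ) * (χ : G → ℂ) z * (χ : G → ℂ) x / (χ : G → ℂ) 1 := by
      rw [← Central.sum_char_conj_mul χ.2]
      refine Finset.sum_congr rfl fun g _ => ?_
      rw [Blocks.Basic.irr_mul_comm χ.2]
    rw [h2]
    ring
  rw [Finset.sum_congr rfl h1, Finset.sum_comm]
  have h2 : ∀ g : G, ∑ χ ∈ blk M G, (χ : G → ℂ) (x * (g * z * g⁻¹)) *
      conj (F p (P : Subgroup G) (χ : G → ℂ)) =
      (Nat.card (P : Subgroup G) : ℂ) * (1 - if ¬ p ∣ orderOf (x * (g * z * g⁻¹)) then 1 else 0) := by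
    intro g
    by_cases hd : p ∣ orderOf (x * (g * z * g⁻¹))
    · rw [if_neg (not_not.2 hd), sub_zero, mul_one]
      rcases value h hM hx hx1 hz hz1 g with ⟨s, hs, hs1, hv⟩ | ⟨h3, -⟩
      · rw [← sum_mul_F h hM hs hs1]
        exact Finset.sum_congr rfl fun χ hχ => by rw [hv χ (mem_blk.1 hχ)]
      · exact absurd hd h3
    · rw [if_pos hd, sub_self, mul_zero, sum_mul_F_of_not_dvd hM hd]
  rw [Finset.sum_congr rfl fun g _ => h2 g, ← Finset.mul_sum, Finset.sum_sub_distrib,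
    Finset.sum_const, Finset.card_univ, nsmul_eq_mul, mul_one, ← Nat.card_eq_fintype_card]
  congr 2
  unfold ν
  rw [Finset.sum_boole]

theorem isConj_of_not_dvd {P : Sylow p G} [Fintype G] (h : HypC p P) {M : Ideal AlgInt}
    (hM : IsPModular p M)
    {x z : G} (hx : x ∈ Zc p (P : Subgroup G)) (hx1 : x ≠ 1)
    (hz : z ∈ Zc p (P : Subgroup G)) (hz1 : z ≠ 1) {g : G}
    (hd : ¬ p ∣ orderOf (x * (g * z * g⁻¹))) : IsConj z x⁻¹ := by
  rcases value h hM hx hx1 hz hz1 g with ⟨s, hs, hs1, hv⟩ | ⟨-, h3⟩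
  · exfalso
    have h1 := sum_mul_F h hM hs hs1
    have h2 := sum_mul_F_of_not_dvd (P := P) hM hd
    have h3 : ∑ χ ∈ blk M G, (χ : G → ℂ) (x * (g * z * g⁻¹)) *
        conj (F p (P : Subgroup G) (χ : G → ℂ)) = ∑ χ ∈ blk M G, (χ : G → ℂ) s *
        conj (F p (P : Subgroup G) (χ : G → ℂ)) :=
      Finset.sum_congr rfl fun χ hχ => by rw [hv χ (mem_blk.1 hχ)]
    rw [h3, h1] at h2
    exact card_ne_zero_complex h2
  · exact h3

/-- `x (g x g⁻¹)` and `x (g x⁻¹ g⁻¹)` are not both `p`-regular. -/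
theorem two_mul_ν_le {P : Sylow p G} [Fintype G] (h : HypC p P) (hp2 : p ≠ 2) {M : Ideal AlgInt}
    (hM : IsPModular p M)
    {x : G} (hx : x ∈ Zc p (P : Subgroup G)) (hx1 : x ≠ 1) (hc : IsConj x x⁻¹) :
    2 * ν p x x⁻¹ ≤ Nat.card G := by
  classical
  have hp : p.Prime := Fact.out
  have h1 : 2 * ν p x x⁻¹ = ν p x x + ν p x x⁻¹ := by rw [ν_conj (p := p) x hc]; ring
  rw [h1]
  unfold ν
  rw [← Finset.card_union_of_disjoint, Nat.card_eq_fintype_card]
  · exact Finset.card_le_univ _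
  · rw [Finset.disjoint_left]
    intro g hg1 hg2
    rw [Finset.mem_filter] at hg1 hg2
    obtain ⟨K, k, a, hP⟩ := exists_pair h hx hx1 hx hx1 g
    have hP' := hP.inv inferInstance
    have key : ∀ z : G, z ∈ Zc p (P : Subgroup G) → z ≠ 1 → Pair p (P : Subgroup G) x z g K k a →
        ¬ p ∣ orderOf (x * (g * z * g⁻¹)) → x * ((k⁻¹ * g) * z * (k⁻¹ * g)⁻¹) = 1 := by
      intro z hz hz1 hP hd
      rcases hP.value h hM with ⟨s, hs, hs1, hv⟩ | ⟨-, h3⟩
      · exfalso
        have h1 := sum_mul_F h hM hs hs1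
        have h2 := sum_mul_F_of_not_dvd (P := P) hM hd
        have h3 : ∑ χ ∈ blk M G, (χ : G → ℂ) (x * (g * z * g⁻¹)) *
            conj (F p (P : Subgroup G) (χ : G → ℂ)) = ∑ χ ∈ blk M G, (χ : G → ℂ) s *
            conj (F p (P : Subgroup G) (χ : G → ℂ)) :=
          Finset.sum_congr rfl fun χ hχ => by rw [hv χ (mem_blk.1 hχ)]
        rw [h3, h1] at h2
        exact card_ne_zero_complex h2
      · exact h3
    have e1 := key x hx hx1 hP hg1.2
    have e2 := key x⁻¹ (inv_mem hx) (inv_ne_one.2 hx1) hP' hg2.2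
    set y : G := (k⁻¹ * g) * x * (k⁻¹ * g)⁻¹ with hy
    have e3 : (k⁻¹ * g) * x⁻¹ * (k⁻¹ * g)⁻¹ = y⁻¹ := by rw [hy]; group
    rw [e3] at e2
    have e4 : y = x⁻¹ := eq_inv_of_mul_eq_one_right e1
    rw [e4, inv_inv] at e2
    have e5 : orderOf x ∣ 2 := orderOf_dvd_of_pow_eq_one (by rw [pow_two]; exact e2)
    rw [orderOf_Zc hp hx hx1] at e5
    exact hp2 ((Nat.prime_dvd_prime_iff_eq hp Nat.prime_two).1 e5)

/-- **Case A.** -/
theorem caseA {P : Sylow p G} (h : HypC p P) (hp2 : p ≠ 2) {M : Ideal AlgInt} (hM : IsPModular p M)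
    (hdeg : ∀ χ ∈ blk M G, χ ≠ one G → ∀ d : ℕ, (χ : G → ℂ) 1 = d → Nat.card (P : Subgroup G) ≤ d)
    (h9 : 9 ≤ Nat.card (P : Subgroup G))
    {x : G} (hx : x ∈ Zc p (P : Subgroup G)) (hx1 : x ≠ 1)
    (hn : ∀ z ∈ Zc p (P : Subgroup G), z ≠ 1 → ∃ z' ∈ Zc p (P : Subgroup G), z' ≠ z ∧ IsConj z z') :
    False := by
  classical
  have := Fintype.ofFinite G
  have hp : p.Prime := Fact.out
  set EE := E p (P : Subgroup G) with hEE
  have hxE : x ∈ EE := mem_E.2 ⟨hx, hx1⟩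
  set c : G → ℝ := fun z => (num p (P : Subgroup G) z : ℝ)⁻¹ with hc
  set m : ℝ := ∑ z ∈ EE, c z with hm
  set N : ℝ := ∑ z ∈ EE, c z * ν p x z with hN
  have hxi : x⁻¹ ∈ Zc p (P : Subgroup G) := inv_mem hx
  have hxi1 : x⁻¹ ≠ 1 := inv_ne_one.2 hx1
  have hxiE : x⁻¹ ∈ EE := mem_E.2 ⟨hxi, hxi1⟩
  have hcnn : ∀ z, 0 ≤ c z := fun z => inv_nonneg.2 (Nat.cast_nonneg _)
  -- `N`
  have hN1 : N = ν p x x⁻¹ := by
    have h1 : ∀ z ∈ EE, c z * ν p x z = if IsConj x⁻¹ z then c z * ν p x x⁻¹ else 0 := by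
      intro z hz
      by_cases hcz : IsConj x⁻¹ z
      · rw [if_pos hcz, ν_conj x hcz]
      · rw [if_neg hcz]
        have h2 : ν p x z = 0 := by
          unfold ν
          rw [Finset.card_eq_zero, Finset.filter_eq_empty_iff]
          intro g _ hg
          exact hcz (isConj_of_not_dvd h hM hx hx1 (mem_E.1 hz).1 (mem_E.1 hz).2 hg).symm
        rw [h2, Nat.cast_zero, mul_zero]
    rw [hN, Finset.sum_congr rfl h1, ← Finset.sum_filter, ← Finset.sum_mul, sum_class hxiE, one_mul]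
  -- the main identity
  have key : (∑ χ ∈ blk M G, (χ : G → ℂ) x / (χ : G → ℂ) 1 *
      (F p (P : Subgroup G) (χ : G → ℂ) * conj (F p (P : Subgroup G) (χ : G → ℂ)))) * (Nat.card G : ℂ) =
      (Nat.card (P : Subgroup G) : ℂ) * ((m : ℂ) * Nat.card G - (N : ℂ)) := by
    have h1 : ∑ z ∈ EE, (c z : ℂ) * (∑ χ ∈ blk M G, (χ : G → ℂ) x * (χ : G → ℂ) z / (χ : G → ℂ) 1 *
        conj (F p (P : Subgroup G) (χ : G → ℂ)) * (Nat.card G : ℂ)) =
        ∑ z ∈ EE, (c z : ℂ) * ((Nat.card (P : Subgroup G) : ℂ) * ((Nat.card G : ℂ) - ν p x z)) :=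
      Finset.sum_congr rfl fun z hz => by rw [sum_sum h hM hx hx1 (mem_E.1 hz).1 (mem_E.1 hz).2]
    have h2 : ∑ z ∈ EE, (c z : ℂ) * (∑ χ ∈ blk M G, (χ : G → ℂ) x * (χ : G → ℂ) z / (χ : G → ℂ) 1 *
        conj (F p (P : Subgroup G) (χ : G → ℂ)) * (Nat.card G : ℂ)) =
        (∑ χ ∈ blk M G, (χ : G → ℂ) x / (χ : G → ℂ) 1 *
      (F p (P : Subgroup G) (χ : G → ℂ) * conj (F p (P : Subgroup G) (χ : G → ℂ)))) *
        (Nat.card G : ℂ) := by
      have h3 : ∀ z ∈ EE, (c z : ℂ) * (∑ χ ∈ blk M G, (χ : G → ℂ) x * (χ : G → ℂ) z / (χ : G → ℂ) 1 *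
          conj (F p (P : Subgroup G) (χ : G → ℂ)) * (Nat.card G : ℂ)) =
          ∑ χ ∈ blk M G, (c z : ℂ) * ((χ : G → ℂ) x * (χ : G → ℂ) z / (χ : G → ℂ) 1 *
          conj (F p (P : Subgroup G) (χ : G → ℂ)) * (Nat.card G : ℂ)) := fun z _ => Finset.mul_sum _ _ _
      rw [Finset.sum_congr rfl h3, Finset.sum_comm, Finset.sum_mul]
      refine Finset.sum_congr rfl fun χ _ => ?_
      have h4 : F p (P : Subgroup G) (χ : G → ℂ) = ∑ z ∈ EE, (c z : ℂ) * (χ : G → ℂ) z := by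
        unfold F
        refine Finset.sum_congr rfl fun z _ => ?_
        rw [hc, Complex.ofReal_inv]
      have h6 : (χ : G → ℂ) x / (χ : G → ℂ) 1 * (F p (P : Subgroup G) (χ : G → ℂ) *
          conj (F p (P : Subgroup G) (χ : G → ℂ))) * (Nat.card G : ℂ) =
          ((χ : G → ℂ) x / (χ : G → ℂ) 1 * conj (F p (P : Subgroup G) (χ : G → ℂ)) * (Nat.card G : ℂ)) *
          ∑ z ∈ EE, (c z : ℂ) * (χ : G → ℂ) z := by
        rw [← h4]
        ring
      rw [h6, Finset.mul_sum]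
      refine Finset.sum_congr rfl fun z _ => ?_
      ring
    have h5 : ∑ z ∈ EE, (c z : ℂ) * ((Nat.card (P : Subgroup G) : ℂ) * ((Nat.card G : ℂ) - ν p x z)) =
        (Nat.card (P : Subgroup G) : ℂ) * ((m : ℂ) * Nat.card G - (N : ℂ)) := by
      rw [hm, hN, Complex.ofReal_sum, Complex.ofReal_sum, Finset.sum_mul, ← Finset.sum_sub_distrib,
        Finset.mul_sum]
      refine Finset.sum_congr rfl fun z _ => ?_
      push_cast
      ring
    rw [← h2, h1, h5]
  -- the sum of the squares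
  have hsq : ∑ χ ∈ blk M G, (‖F p (P : Subgroup G) (χ : G → ℂ)‖ ^ 2) =
      (Nat.card (P : Subgroup G) : ℝ) * m := by
    have h1 : ((∑ χ ∈ blk M G, (‖F p (P : Subgroup G) (χ : G → ℂ)‖ ^ 2) : ℝ) : ℂ) =
        (Nat.card (P : Subgroup G) : ℂ) * (m : ℂ) := by
      have h2 : ((∑ χ ∈ blk M G, (‖F p (P : Subgroup G) (χ : G → ℂ)‖ ^ 2) : ℝ) : ℂ) =
          ∑ χ ∈ blk M G, F p (P : Subgroup G) (χ : G → ℂ) * conj (F p (P : Subgroup G) (χ : G → ℂ)) := by
        push_cast
        exact Finset.sum_congr rfl fun χ _ => (Complex.mul_conj' _).symm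
      rw [h2]
      have h3 : ∀ χ ∈ blk M G, F p (P : Subgroup G) (χ : G → ℂ) * conj (F p (P : Subgroup G) (χ : G → ℂ)) =
          ∑ z ∈ EE, (c z : ℂ) * ((χ : G → ℂ) z * conj (F p (P : Subgroup G) (χ : G → ℂ))) := by
        intro χ _
        have h4 : F p (P : Subgroup G) (χ : G → ℂ) = ∑ z ∈ EE, (c z : ℂ) * (χ : G → ℂ) z := by
          unfold F
          refine Finset.sum_congr rfl fun z _ => ?_
          rw [hc, Complex.ofReal_inv]
        nth_rewrite 1 [h4]
        rw [Finset.sum_mul]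
        refine Finset.sum_congr rfl fun z _ => ?_
        ring
      rw [Finset.sum_congr rfl h3, Finset.sum_comm]
      have h4 : ∀ z ∈ EE, ∑ χ ∈ blk M G, (c z : ℂ) * ((χ : G → ℂ) z *
          conj (F p (P : Subgroup G) (χ : G → ℂ))) = (Nat.card (P : Subgroup G) : ℂ) * (c z : ℂ) := by
        intro z hz
        rw [← Finset.mul_sum, sum_mul_F h hM (mem_E.1 hz).1 (mem_E.1 hz).2, mul_comm]
      rw [Finset.sum_congr rfl h4, ← Finset.mul_sum, hm, Complex.ofReal_sum]
    have h2 : (((Nat.card (P : Subgroup G) : ℝ) * m : ℝ) : ℂ) =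
        (Nat.card (P : Subgroup G) : ℂ) * (m : ℂ) := by push_cast; ring
    rw [← h2] at h1
    exact Complex.ofReal_injective h1
  -- the real part
  have hre : (∑ χ ∈ blk M G, ((χ : G → ℂ) x / (χ : G → ℂ) 1).re *
      (‖F p (P : Subgroup G) (χ : G → ℂ)‖ ^ 2)) * (Nat.card G : ℝ) =
      (Nat.card (P : Subgroup G) : ℝ) * (m * Nat.card G - N) := by
    have h1 := congrArg Complex.re key
    have h2 : (Nat.card (P : Subgroup G) : ℂ) * ((m : ℂ) * Nat.card G - (N : ℂ)) =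
        (((Nat.card (P : Subgroup G) : ℝ) * (m * Nat.card G - N) : ℝ) : ℂ) := by push_cast; ring
    rw [h2, Complex.ofReal_re, ← Complex.ofReal_natCast, Complex.re_mul_ofReal, Complex.re_sum] at h1
    rw [← h1]
    congr 1
    refine Finset.sum_congr rfl fun χ _ => ?_
    rw [Complex.mul_conj', ← Complex.ofReal_pow, Complex.re_mul_ofReal]
  -- the bound for the nonprincipal characters
  have hPpos : (0 : ℝ) < Nat.card (P : Subgroup G) := by exact_mod_cast Nat.card_pos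
  have h9' : (9 : ℝ) ≤ Nat.card (P : Subgroup G) := by exact_mod_cast h9
  have hbd : ∀ χ ∈ blk M G, χ ≠ one G → ((χ : G → ℂ) x / (χ : G → ℂ) 1).re ≤ 1 / 3 := by
    intro χ hχ hne
    obtain ⟨d, hd0, hd⟩ := isIrr_apply_one χ.2
    have h1 := hdeg χ hχ hne d hd
    have h2 : ‖(χ : G → ℂ) x‖ ^ 2 ≤ Nat.card (P : Subgroup G) := by
      have h3 := norm_Zc h hM hx hx1
      have h4 : (∑ χ ∈ blk M G, ‖(χ : G → ℂ) x‖ ^ 2 : ℝ) = Nat.card (P : Subgroup G) := by
        apply Complex.ofReal_injective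
        rw [Complex.ofReal_natCast, ← h3]
        push_cast
        exact Finset.sum_congr rfl fun χ _ => (Complex.mul_conj' _).symm
      rw [← h4]
      exact Finset.single_le_sum (f := fun χ : IrrCharacter G => ‖(χ : G → ℂ) x‖ ^ 2)
        (fun _ _ => sq_nonneg _) hχ
    have h1' : (Nat.card (P : Subgroup G) : ℝ) ≤ d := by exact_mod_cast h1
    have hd0' : (0 : ℝ) < d := by exact_mod_cast hd0
    refine (Complex.re_le_norm _).trans ?_
    rw [norm_div, hd, Complex.norm_natCast, div_le_div_iff₀ hd0' (by norm_num), one_mul]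
    have h5 : (‖(χ : G → ℂ) x‖ * 3) ^ 2 ≤ (d : ℝ) ^ 2 := by nlinarith
    exact le_of_sq_le_sq h5 hd0'.le |> fun h => h
  -- the value at the principal character
  have hF1 : F p (P : Subgroup G) ((one G : IrrCharacter G) : G → ℂ) = (m : ℂ) := by
    unfold F
    rw [hm, Complex.ofReal_sum]
    refine Finset.sum_congr rfl fun z _ => ?_
    show _ * (1 : ℂ) = _
    rw [mul_one, hc, Complex.ofReal_inv]
  have hone := one_mem_blk (G := G) hM
  have hmain : (Nat.card (P : Subgroup G) : ℝ) * (m * Nat.card G - N) ≤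
      Nat.card G * (m ^ 2 + (1 / 3) * ((Nat.card (P : Subgroup G) : ℝ) * m - m ^ 2)) := by
    rw [← hre, mul_comm]
    apply mul_le_mul_of_nonneg_left _ (Nat.cast_nonneg _)
    rw [← Finset.add_sum_erase _ _ hone] at hsq ⊢
    have h1 : (((one G : IrrCharacter G) : G → ℂ) x / ((one G : IrrCharacter G) : G → ℂ) 1).re = 1 := by
      show ((1 : ℂ) / 1).re = 1
      simp
    rw [h1, hF1, one_mul]
    rw [hF1] at hsq
    have h2 : ‖(m : ℂ)‖ ^ 2 = m ^ 2 := by
      rw [Complex.norm_real, Real.norm_eq_abs, sq_abs]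
    rw [h2] at hsq ⊢
    have h3 : ∑ χ ∈ (blk M G).erase (one G), ((χ : G → ℂ) x / (χ : G → ℂ) 1).re *
        (‖F p (P : Subgroup G) (χ : G → ℂ)‖ ^ 2) ≤
        ∑ χ ∈ (blk M G).erase (one G), (1 / 3) * (‖F p (P : Subgroup G) (χ : G → ℂ)‖ ^ 2) :=
      Finset.sum_le_sum fun χ hχ => mul_le_mul_of_nonneg_right
        (hbd χ (Finset.mem_of_mem_erase hχ) (Finset.ne_of_mem_erase hχ)) (sq_nonneg _)
    rw [← Finset.mul_sum] at h3
    have h4 : ∑ χ ∈ (blk M G).erase (one G), (‖F p (P : Subgroup G) (χ : G → ℂ)‖ ^ 2) =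
        (Nat.card (P : Subgroup G) : ℝ) * m - m ^ 2 := by linarith
    rw [h4] at h3
    linarith
  refine numericA _ m _ N (by exact_mod_cast Nat.card_pos) h9' ?_ hmain
  by_cases hall : ∀ z ∈ EE, IsConj x z
  · left
    constructor
    · rw [hm, ← sum_class (p := p) (P := (P : Subgroup G)) hxE, Finset.filter_true_of_mem hall]
    · rw [hN1]
      exact_mod_cast two_mul_ν_le h hp2 hM hx hx1 (hall _ hxiE)
  · right
    push Not at hall
    obtain ⟨z, hz, hxz⟩ := hall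
    refine ⟨?_, ?_, ?_⟩
    · have h1 : ∑ v ∈ EE.filter (fun v => IsConj x v) ∪ EE.filter (fun v => IsConj z v), c v ≤ m := by
        rw [hm]
        exact Finset.sum_le_sum_of_subset_of_nonneg
          (Finset.union_subset (Finset.filter_subset _ _) (Finset.filter_subset _ _))
          fun v _ _ => hcnn v
      rw [Finset.sum_union, sum_class hxE, sum_class hz] at h1
      · linarith
      · rw [Finset.disjoint_left]
        intro v hv1 hv2
        exact hxz ((Finset.mem_filter.1 hv1).2.trans (Finset.mem_filter.1 hv2).2.symm)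
    · have h1 : ∀ v ∈ EE, c v ≤ 1 / 2 := by
        intro v hv
        obtain ⟨v', hv', hne, hcv⟩ := hn v (mem_E.1 hv).1 (mem_E.1 hv).2
        have hv'1 : v' ≠ 1 := by
          rintro rfl
          exact (mem_E.1 hv).2 (isConj_one_left.1 hcv)
        have h2 : 2 ≤ num p (P : Subgroup G) v := by
          unfold num
          have h3 : ({v, v'} : Finset G) ⊆ (E p (P : Subgroup G)).filter fun u => IsConj v u := by
            intro u hu
            rw [Finset.mem_insert, Finset.mem_singleton] at hu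
            rw [Finset.mem_filter]
            rcases hu with rfl | rfl
            · exact ⟨hv, IsConj.refl _⟩
            · exact ⟨mem_E.2 ⟨hv', hv'1⟩, hcv⟩
          have h4 := Finset.card_le_card h3
          rwa [Finset.card_pair hne.symm] at h4
        have h3 : (2 : ℝ) ≤ num p (P : Subgroup G) v := by exact_mod_cast h2
        show ((num p (P : Subgroup G) v : ℝ))⁻¹ ≤ 1 / 2
        rw [one_div]
        exact inv_anti₀ (by norm_num) h3
      have h2 : m ≤ ∑ v ∈ EE, (1 / 2 : ℝ) := Finset.sum_le_sum h1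
      rw [Finset.sum_const, nsmul_eq_mul] at h2
      have h3 : EE.card ≤ Nat.card (P : Subgroup G) := by
        have h4 : Nat.card (P : Subgroup G) =
            (Finset.univ.filter fun g : G => g ∈ (P : Subgroup G)).card := by
          rw [Nat.card_eq_fintype_card, Fintype.card_subtype]
        rw [h4]
        apply Finset.card_le_card
        intro v hv
        rw [Finset.mem_filter]
        exact ⟨Finset.mem_univ _, (mem_E.1 hv).1.1⟩
      have h4 : (EE.card : ℝ) ≤ Nat.card (P : Subgroup G) := by exact_mod_cast h3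
      linarith
    · rw [hN1]
      exact_mod_cast ν_le x x⁻¹

end Cfsg.Agent.H267.ThmC
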