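import Mathlib
import Cfsg.Agent.H267.ThmB
import Cfsg.Agent.H267.PairSylow
import Cfsg.Agent.S0215

/-!
# Groups in which two Sylow `p`-subgroups generate a `p`-solvable group

`isPSolvable_of_pairs`: if `⟨P₁, P₂⟩` is `p`-solvable for any two Sylow `p`-subgroups then `G` is `p`-solvable.
The simple case uses Theorems A and B (characters in the principal `p`-block) and Glauberman's Z*-theorem.
-/

set_option autoImplicit false

namespace Cfsg.Agent.H267.TwoSylow

open Cfsg Subgroup

universe u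

section General

variable {G : Type*} [Group G] [Finite G] {p : ℕ} [Fact p.Prime]

theorem pairG_comm {P₁ P₂ : Sylow p G} (hX : IsPSolvable p ↥((P₁ : Subgroup G) ⊔ (P₂ : Subgroup G)))
    {z z' : G} (hz : z ∈ (P₁ : Subgroup G)) (hz' : z' ∈ (P₂ : Subgroup G))
    (hzc : ∀ r ∈ (P₁ : Subgroup G), r * z = z * r)
    (hzc' : ∀ r ∈ (P₂ : Subgroup G), r * z' = z' * r) :
    ∃ K : Subgroup G, (Nat.card K).Coprime p ∧ z * z' * z⁻¹ * z'⁻¹ ∈ K := by
  set X : Subgroup G := (P₁ : Subgroup G) ⊔ (P₂ : Subgroup G) with hXd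
  have h1 : (P₁ : Subgroup G) ≤ X := le_sup_left
  have h2 : (P₂ : Subgroup G) ≤ X := le_sup_right
  refine ⟨(pPrimeCore p X).map X.subtype, ?_, ?_⟩
  · rw [← Nat.card_congr ((pPrimeCore p X).equivMapOfInjective _ X.subtype_injective).toEquiv]
    exact Lib.HallHigman.pPrimeCore_coprime p
  · refine ⟨⟨z, h1 hz⟩ * ⟨z', h2 hz'⟩ * (⟨z, h1 hz⟩)⁻¹ * (⟨z', h2 hz'⟩)⁻¹, ?_, rfl⟩
    refine PairSylow.pair_comm hX (P₁.subtype h1) (P₂.subtype h2) ?_ ?_
    · intro r hr
      apply Subtype.ext
      exact hzc r hr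
    · intro r hr
      apply Subtype.ext
      exact hzc' r hr

theorem pairG_conj {P₁ P₂ : Sylow p G} (hX : IsPSolvable p ↥((P₁ : Subgroup G) ⊔ (P₂ : Subgroup G)))
    {Z : Set G} (hZ : ∀ z ∈ Z, z ∈ (P₂ : Subgroup G))
    (hZc : ∀ r ∈ (P₂ : Subgroup G), ∀ z ∈ Z, r * z = z * r) :
    ∃ K : Subgroup G, (Nat.card K).Coprime p ∧
      (∀ r ∈ (P₁ : Subgroup G), ∀ x ∈ K, r * x * r⁻¹ ∈ K) ∧
      ∃ k ∈ K, ∀ z ∈ Z, k⁻¹ * z * k ∈ (P₁ : Subgroup G) := by
  set X : Subgroup G := (P₁ : Subgroup G) ⊔ (P₂ : Subgroup G) with hXd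
  have h1 : (P₁ : Subgroup G) ≤ X := le_sup_left
  have h2 : (P₂ : Subgroup G) ≤ X := le_sup_right
  have hn : (pPrimeCore p X).Normal := Lib.HallHigman.pPrimeCore_normal p
  set Y : Subgroup X := (P₂.subtype h2 : Subgroup X) ⊓
    centralizer ((P₂.subtype h2 : Subgroup X) : Set X) with hY
  obtain ⟨k, hk, hk2⟩ := PairSylow.pair_conj hX (P₁.subtype h1) (P₂.subtype h2) (Z := Y)
    ((P₂.subtype h2).isPGroup'.to_le inf_le_left)
    (fun r hr z hz => mem_centralizer_iff.1 hz.2 r hr)
  refine ⟨(pPrimeCore p X).map X.subtype, ?_, ?_, k, ⟨k, hk, rfl⟩, ?_⟩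
  · rw [← Nat.card_congr ((pPrimeCore p X).equivMapOfInjective _ X.subtype_injective).toEquiv]
    exact Lib.HallHigman.pPrimeCore_coprime p
  · rintro r hr _ ⟨x, hx, rfl⟩
    exact ⟨⟨r, h1 hr⟩ * x * ⟨r, h1 hr⟩⁻¹, hn.conj_mem x hx _, rfl⟩
  · intro z hz
    have h3 : (⟨z, h2 (hZ z hz)⟩ : X) ∈ Y := by
      refine Subgroup.mem_inf.2 ⟨hZ z hz, ?_⟩
      rw [mem_centralizer_iff]
      intro r hr
      apply Subtype.ext
      exact hZc r hr z hz
    exact hk2 _ h3

/-- An element conjugating a subgroup into itself normalizes it. -/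
theorem mem_normalizer_of_forall {W : Subgroup G} {g : G} (h : ∀ w ∈ W, g * w * g⁻¹ ∈ W) :
    g ∈ normalizer (W : Set G) := by
  have hmap : W.map (MulAut.conj g).toMonoidHom ≤ W := by
    rintro _ ⟨w, hw, rfl⟩
    exact h w hw
  have hcard : Nat.card (W.map (MulAut.conj g).toMonoidHom) = Nat.card W :=
    (Nat.card_congr (W.equivMapOfInjective _ (MulAut.conj g).injective).toEquiv).symm
  have heq := Subgroup.eq_of_le_of_card_ge hmap hcard.ge
  rw [mem_normalizer_iff]
  intro w
  refine ⟨fun hw => h w hw, fun hw => ?_⟩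
  have h1 : g * w * g⁻¹ ∈ W.map (MulAut.conj g).toMonoidHom := by rw [heq]; exact hw
  obtain ⟨w', hw', he⟩ := h1
  have h2 : g * w' * g⁻¹ = g * w * g⁻¹ := he
  have h3 : w' = w := mul_left_cancel (mul_right_cancel h2)
  rw [← h3]
  exact hw'

/-- The conjugates in `P` of the central elements of `P`. -/
def D (P : Sylow p G) : Set G :=
  {x | x ∈ (P : Subgroup G) ∧ ∃ z ∈ (P : Subgroup G), (∀ r ∈ (P : Subgroup G), r * z = z * r) ∧
    IsConj z x}

theorem D_comm (P : Sylow p G)
    (hpairs : ∀ P₁ P₂ : Sylow p G, IsPSolvable p ↥((P₁ : Subgroup G) ⊔ (P₂ : Subgroup G)))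
    {x y : G} (hx : x ∈ D P) (hy : y ∈ D P) : x * y = y * x := by
  obtain ⟨hxP, z, hz, hzc, hzx⟩ := hx
  obtain ⟨hyP, z', hz', hzc', hzy⟩ := hy
  obtain ⟨a, rfl⟩ := isConj_iff.1 hzx
  obtain ⟨b, rfl⟩ := isConj_iff.1 hzy
  have key : ∀ a z : G, z ∈ (P : Subgroup G) → (∀ r ∈ (P : Subgroup G), r * z = z * r) →
      a * z * a⁻¹ ∈ ((a • P : Sylow p G) : Subgroup G) ∧
      ∀ r ∈ ((a • P : Sylow p G) : Subgroup G), r * (a * z * a⁻¹) = (a * z * a⁻¹) * r := by
    intro a z hz hzc
    constructor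
    · rw [Invar.mem_smul_sylow]
      have : a⁻¹ * (a * z * a⁻¹) * a = z := by group
      rwa [this]
    · intro r hr
      rw [Invar.mem_smul_sylow] at hr
      have h1 := hzc _ hr
      calc r * (a * z * a⁻¹) = a * ((a⁻¹ * r * a) * z) * a⁻¹ := by group
        _ = a * (z * (a⁻¹ * r * a)) * a⁻¹ := by rw [h1]
        _ = (a * z * a⁻¹) * r := by group
  obtain ⟨h1, h2⟩ := key a z hz hzc
  obtain ⟨h3, h4⟩ := key b z' hz' hzc'
  obtain ⟨K, hK, hK2⟩ := pairG_comm (hpairs (a • P) (b • P)) h1 h3 h2 h4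
  have h5 : a * z * a⁻¹ * (b * z' * b⁻¹) * (a * z * a⁻¹)⁻¹ * (b * z' * b⁻¹)⁻¹ ∈ (P : Subgroup G) :=
    mul_mem (mul_mem (mul_mem hxP hyP) (inv_mem hxP)) (inv_mem hyP)
  have h6 := Invar.eq_one_of_mem hK P.isPGroup' hK2 h5
  exact mul_inv_eq_iff_eq_mul.1 (mul_inv_eq_one.1 h6)

theorem W_comm (P : Sylow p G)
    (hpairs : ∀ P₁ P₂ : Sylow p G, IsPSolvable p ↥((P₁ : Subgroup G) ⊔ (P₂ : Subgroup G))) :
    ∀ x ∈ closure (D P), ∀ y ∈ closure (D P), x * y = y * x := by
  have h1 : closure (D P) ≤ centralizer (closure (D P) : Set G) := by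
    rw [closure_le, centralizer_closure]
    intro x hx
    rw [SetLike.mem_coe, mem_centralizer_iff]
    intro y hy
    exact D_comm P hpairs hy hx
  intro x hx y hy
  exact (mem_centralizer_iff.1 (h1 hx) y hy).symm

theorem W_le (P : Sylow p G) : closure (D P) ≤ (P : Subgroup G) := by
  rw [closure_le]
  intro x hx
  exact hx.1

theorem W_weakly (P : Sylow p G) (g : G)
    (h : ∀ w ∈ closure (D P), g * w * g⁻¹ ∈ (P : Subgroup G)) :
    g ∈ normalizer (closure (D P) : Set G) := by
  apply mem_normalizer_of_forall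
  have h1 : closure (D P) ≤ (closure (D P)).comap (MulAut.conj g).toMonoidHom := by
    rw [closure_le]
    intro x hx
    show g * x * g⁻¹ ∈ closure (D P)
    apply Subgroup.subset_closure
    refine ⟨h x (subset_closure hx), ?_⟩
    obtain ⟨-, z, hz, hzc, hzx⟩ := hx
    exact ⟨z, hz, hzc, hzx.trans (isConj_iff.2 ⟨g, rfl⟩)⟩
  intro w hw
  exact h1 hw

/-- Three distinct elements. -/
theorem three_le_card {α : Type*} [Finite α] {a b c : α} (hab : a ≠ b) (hac : a ≠ c) (hbc : b ≠ c) :
    3 ≤ Nat.card α := by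
  classical
  have := Fintype.ofFinite α
  have h1 : ({a, b, c} : Finset α).card = 3 := Finset.card_eq_three.2 ⟨a, b, c, hab, hac, hbc, rfl⟩
  rw [← h1, Nat.card_eq_fintype_card]
  exact Finset.card_le_univ _

end General

section Simple

variable {G : Type u} [Group G] [Finite G] {p : ℕ} [Fact p.Prime]

theorem false_of_simple [IsSimpleGroup G] (hG : ¬ ∀ a b : G, a * b = b * a) (hdvd : p ∣ Nat.card G)
    (hprop : ∀ H : Subgroup G, H ≠ ⊤ → IsPSolvable p H)
    (hpairs : ∀ P₁ P₂ : Sylow p G, IsPSolvable p ↥((P₁ : Subgroup G) ⊔ (P₂ : Subgroup G))) :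
    False := by
  classical
  have hp : p.Prime := Fact.out
  obtain ⟨P⟩ : Nonempty (Sylow p G) := inferInstance
  have hcenter : center G = ⊥ := by
    rcases IsSimpleGroup.eq_bot_or_eq_top_of_normal (center G) inferInstance with h2 | h2
    · exact h2
    · exfalso
      apply hG
      intro a b
      have : b ∈ center G := by rw [h2]; trivial
      exact mem_center_iff.1 this a
  have hcent : ∀ w : G, w ≠ 1 → IsPSolvable p (centralizer ({w} : Set G)) := by
    intro w hw
    apply hprop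
    intro htop
    apply hw
    rw [← mem_bot, ← hcenter, mem_center_iff]
    intro g
    have : g ∈ centralizer ({w} : Set G) := by rw [htop]; trivial
    exact mem_centralizer_singleton_iff.1 this
  have hsmul : ∀ g x : G, x ∈ ((g • P : Sylow p G) : Subgroup G) ↔ g⁻¹ * x * g ∈ (P : Subgroup G) :=
    fun g x => Invar.mem_smul_sylow P g x
  set Z : Subgroup G := (P : Subgroup G) ⊓ centralizer ((P : Subgroup G) : Set G) with hZ
  have hZc : ∀ r ∈ (P : Subgroup G), ∀ z ∈ Z, r * z = z * r := fun r hr z hz =>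
    mem_centralizer_iff.1 hz.2 r hr
  set W : Subgroup G := closure (D P) with hW
  have hWP : W ≤ (P : Subgroup G) := W_le P
  have hWa := W_comm P hpairs
  have hWw := W_weakly P
  have hZW : Z ≤ W := fun z hz =>
    subset_closure ⟨hz.1, z, hz.1, fun r hr => hZc r hr z hz, IsConj.refl z⟩
  have hPW : ∀ r ∈ (P : Subgroup G), ∀ w ∈ W, r * w * r⁻¹ ∈ W := by
    intro r hr w hw
    have h1 : r ∈ normalizer (W : Set G) := hWw r fun w hw =>
      mul_mem (mul_mem hr (hWP hw)) (inv_mem hr)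
    exact (mem_normalizer_iff.1 h1 w).1 hw
  have hB : ThmA.HypB p W Z := by
    refine ⟨hWa, P.isPGroup'.to_le hWP, hZW, fun g => ?_⟩
    obtain ⟨K, hK, hPK, k, hk, hk2⟩ := pairG_conj (hpairs P (g⁻¹ • P))
      (Z := {x | ∃ z ∈ Z, x = g⁻¹ * z * g}) (by
        rintro _ ⟨z, hz, rfl⟩
        rw [hsmul, inv_inv]
        have : g * (g⁻¹ * z * g) * g⁻¹ = z := by group
        rw [this]
        exact hz.1) (by
        rintro r hr _ ⟨z, hz, rfl⟩
        rw [hsmul, inv_inv] at hr
        have h1 := hZc _ hr z hz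
        calc r * (g⁻¹ * z * g) = g⁻¹ * ((g * r * g⁻¹) * z) * g := by group
          _ = g⁻¹ * (z * (g * r * g⁻¹)) * g := by rw [h1]
          _ = (g⁻¹ * z * g) * r := by group)
    refine ⟨K, hK, fun w hw x hx => hPK w (hWP hw) x hx, fun w hw hw1 u hu hwu => ?_, k, hk, ?_⟩
    · exact Invar.mem_centralizerPPrimeCore P hWP hWa hWw hK hPK hw (hcent w hw1) hu hwu
    · intro z hz
      have h1 := hk2 _ ⟨z, hz, rfl⟩
      have h2 : (g * k)⁻¹ * z * (g * k) = k⁻¹ * (g⁻¹ * z * g) * k := by group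
      rw [h2]
      apply Subgroup.subset_closure
      refine ⟨h1, z, hz.1, fun r hr => hZc r hr z hz, isConj_iff.2 ⟨(g * k)⁻¹, ?_⟩⟩
      group
  -- the centre of `P` is not trivial
  have hPne : (P : Subgroup G) ≠ ⊥ := by
    intro h
    have h1 := P.card_eq_multiplicity
    rw [h, Subgroup.card_bot] at h1
    have h2 : 0 < (Nat.card G).factorization p :=
      hp.factorization_pos_of_dvd Nat.card_pos.ne' hdvd
    have h3 : 1 < p ^ (Nat.card G).factorization p := Nat.one_lt_pow h2.ne' hp.one_lt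
    omega
  have hZne : Z ≠ ⊥ := by
    have hnt : Nontrivial (P : Subgroup G) := (Subgroup.nontrivial_iff_ne_bot _).2 hPne
    have hcn : Nontrivial (center (P : Subgroup G)) := P.isPGroup'.center_nontrivial
    obtain ⟨z, hz⟩ := exists_ne (1 : center (P : Subgroup G))
    intro h
    apply hz
    have h1 : ((z : (P : Subgroup G)) : G) ∈ Z := by
      refine Subgroup.mem_inf.2 ⟨(z : (P : Subgroup G)).2, ?_⟩
      rw [mem_centralizer_iff]
      intro r hr
      exact congrArg Subtype.val (mem_center_iff.1 z.2 ⟨r, hr⟩)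
    rw [h, mem_bot] at h1
    exact Subtype.ext (Subtype.ext h1)
  by_cases hZ3 : 3 ≤ Nat.card Z
  · by_cases hab : ∀ x ∈ (P : Subgroup G), ∀ y ∈ (P : Subgroup G), x * y = y * x
    · -- abelian case
      have hPw : ∀ g : G, (∀ w ∈ (P : Subgroup G), g * w * g⁻¹ ∈ (P : Subgroup G)) →
          g ∈ normalizer ((P : Subgroup G) : Set G) := fun g h => mem_normalizer_of_forall h
      have hA : ThmA.Hyp p (P : Subgroup G) := by
        refine ⟨hab, P.isPGroup', fun g => ?_⟩
        obtain ⟨K, hK, hPK, k, hk, hk2⟩ := pairG_conj (hpairs P (g • P))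
          (Z := ((g • P : Sylow p G) : Subgroup G)) (fun z hz => hz) (by
            intro r hr z hz
            rw [SetLike.mem_coe, hsmul] at hz
            rw [hsmul] at hr
            have h1 := hab _ hr _ hz
            calc r * z = g * ((g⁻¹ * r * g) * (g⁻¹ * z * g)) * g⁻¹ := by group
              _ = g * ((g⁻¹ * z * g) * (g⁻¹ * r * g)) * g⁻¹ := by rw [h1]
              _ = z * r := by group)
        refine ⟨K, hK, hPK, fun w hw hw1 u hu hwu => ?_, k⁻¹, K.inv_mem hk, ?_⟩
        · exact Invar.mem_centralizerPPrimeCore P le_rfl hab hPw hK hPK hw (hcent w hw1) hu hwu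
        · apply mem_normalizer_of_forall
          intro w hw
          have h1 := hk2 (g * w * g⁻¹) (by
            rw [SetLike.mem_coe, hsmul]
            have : g⁻¹ * (g * w * g⁻¹) * g = w := by group
            rwa [this])
          have h2 : k⁻¹ * g * w * (k⁻¹ * g)⁻¹ = k⁻¹ * (g * w * g⁻¹) * k := by group
          rw [h2]
          exact h1
      exact ThmA.false_of_simple hG hA (hZ3.trans (Subgroup.card_le_of_le inf_le_left))
    · -- nonabelian case
      refine ThmA.falseB hG hB hZ3 P hZc ?_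
      have hne : W ≠ (P : Subgroup G) := by
        intro h
        apply hab
        rw [← h]
        exact hWa
      have h1 := Lib.HallHigman.card_mul_relIndex' hWP
      have h2 : 1 < W.relIndex (P : Subgroup G) := by
        have h3 : W.relIndex (P : Subgroup G) ≠ 1 := by
          intro h4
          rw [Subgroup.relIndex_eq_one] at h4
          exact hne (le_antisymm hWP h4)
        have h5 : W.relIndex (P : Subgroup G) ≠ 0 := by
          intro h0
          rw [h0, mul_zero] at h1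
          exact (Nat.card_pos (α := (P : Subgroup G))).ne h1
        omega
      rw [← h1, mul_comm]
      exact Nat.mul_le_mul_left _ h2
  · -- `|Z| = 2`
    have hZ1 : 1 < Nat.card Z := by
      rw [Finite.one_lt_card_iff_nontrivial]
      exact (Subgroup.nontrivial_iff_ne_bot _).2 hZne
    have hZ2 : Nat.card Z = 2 := by omega
    have hp2 : p = 2 := by
      obtain ⟨n, hn⟩ := (P.isPGroup'.to_le (inf_le_left : Z ≤ (P : Subgroup G))).exists_card_eq
      rw [hZ2] at hn
      have h1 : p ∣ 2 := by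
        rw [hn]
        apply dvd_pow_self
        rintro rfl
        rw [pow_zero] at hn
        omega
      exact (Nat.prime_dvd_prime_iff_eq hp Nat.prime_two).1 h1
    subst hp2
    obtain ⟨M, hM⟩ := Blocks.ExistsModular.exists_isPModular hp
    obtain ⟨⟨z, hz⟩, hz2⟩ := Subgroup.ne_bot_iff_exists_ne_one.1 hZne
    have hz1 : z ≠ 1 := fun h => hz2 (Subtype.ext h)
    have hcl : normalClosure (Z : Set G) = ⊤ := by
      rcases IsSimpleGroup.eq_bot_or_eq_top_of_normal (normalClosure (Z : Set G))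
        inferInstance with h1 | h1
      · exfalso
        apply hZne
        rw [eq_bot_iff, ← h1]
        exact le_normalClosure
      · exact h1
    have hfus := ThmA.fusion_two hB hM hcl hZ2 P.isPGroup'
      (Subgroup.card_le_of_le hWP) hz hz1 (fun r hr => hZc r hr z hz)
    have hZel : ∀ w ∈ Z, w ≠ 1 → w = z := by
      intro w hw hw1
      by_contra hne
      have h2 := three_le_card (a := (⟨1, Z.one_mem⟩ : Z)) (b := ⟨z, hz⟩) (c := ⟨w, hw⟩)
        (fun h => hz1 (congrArg Subtype.val h).symm) (fun h => hw1 (congrArg Subtype.val h).symm)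
        (fun h => hne (congrArg Subtype.val h).symm)
      omega
    have hiso : ∀ g : G, g * z * g⁻¹ ∈ (P : Subgroup G) → g * z * g⁻¹ = z := by
      intro g hg
      set w : G := g * z * g⁻¹ with hw
      have hconj : IsConj z w := isConj_iff.2 ⟨g, rfl⟩
      have hwW : w ∈ W := subset_closure ⟨hg, z, hz.1, fun r hr => hZc r hr z hz, hconj⟩
      by_contra hne
      have hw1 : w ≠ 1 := by
        intro h
        rw [h] at hconj
        exact hz1 (isConj_one_left.1 hconj)
      have hfix : ∀ r ∈ (P : Subgroup G), r * w * r⁻¹ = w := by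
        intro r hr
        by_contra hne2
        have hz3 : r * w * r⁻¹ ≠ z := by
          intro h
          apply hne
          have h2 : w = r⁻¹ * z * r := by rw [← h]; group
          rw [h2]
          have h3 := hZc r⁻¹ (inv_mem hr) z hz
          rw [h3]
          group
        have hc2 : IsConj z (r * w * r⁻¹) := hconj.trans (isConj_iff.2 ⟨r, rfl⟩)
        have h2 := three_le_card (a := (⟨⟨z, hZW hz⟩, IsConj.refl z⟩ : {w : W // IsConj z (w : G)}))
          (b := ⟨⟨w, hwW⟩, hconj⟩) (c := ⟨⟨r * w * r⁻¹, hPW r hr w hwW⟩, hc2⟩)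
          (fun h => hne (congrArg (fun q => ((q : {w : W // IsConj z (w : G)}) : W).1) h).symm)
          (fun h => hz3 (congrArg (fun q => ((q : {w : W // IsConj z (w : G)}) : W).1) h).symm)
          (fun h => hne2 (congrArg (fun q => ((q : {w : W // IsConj z (w : G)}) : W).1) h).symm)
        omega
      have hwZ : w ∈ Z := by
        refine Subgroup.mem_inf.2 ⟨hg, ?_⟩
        rw [mem_centralizer_iff]
        intro r hr
        exact mul_inv_eq_iff_eq_mul.1 (hfix r hr)
      exact hne (hZel w hwZ hw1)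
    have hzord : orderOf z = 2 := by
      have h1 : orderOf (⟨z, hz⟩ : Z) ∣ 2 := by
        rw [← hZ2]
        exact orderOf_dvd_natCard _
      rw [Subgroup.orderOf_mk] at h1
      rcases (Nat.dvd_prime Nat.prime_two).1 h1 with h2 | h2
      · exact absurd (orderOf_eq_one_iff.1 h2) hz1
      · exact h2
    obtain ⟨N, hNn, hNo, hNc⟩ := S0215.result P z hzord hz.1 hiso
    have hNb : N = ⊥ := by
      rcases IsSimpleGroup.eq_bot_or_eq_top_of_normal N hNn with h2 | h2
      · exact h2
      · exfalso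
        rw [h2, Subgroup.card_top] at hNo
        exact (Nat.not_even_iff_odd.2 hNo) (even_iff_two_dvd.2 hdvd)
    have hzc : z ∈ center G := by
      rw [mem_center_iff]
      intro g
      have h1 := hNc g
      rw [hNb, mem_bot] at h1
      have h3 : z * g * z⁻¹ = g := mul_inv_eq_one.1 h1
      exact (mul_inv_eq_iff_eq_mul.1 h3).symm
    rw [hcenter, mem_bot] at hzc
    exact hz1 hzc

end Simple

section Main

variable {p : ℕ} [Fact p.Prime]

/-- The pair condition passes to subgroups. -/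
theorem pairs_subgroup {G : Type u} [Group G] [Finite G]
    (hpairs : ∀ P₁ P₂ : Sylow p G, IsPSolvable p ↥((P₁ : Subgroup G) ⊔ (P₂ : Subgroup G)))
    (H : Subgroup G) :
    ∀ Q₁ Q₂ : Sylow p H, IsPSolvable p ↥((Q₁ : Subgroup H) ⊔ (Q₂ : Subgroup H)) := by
  intro Q₁ Q₂
  obtain ⟨P₁, h1⟩ := (Q₁.isPGroup'.map H.subtype).exists_le_sylow
  obtain ⟨P₂, h2⟩ := (Q₂.isPGroup'.map H.subtype).exists_le_sylow
  have hle : ((Q₁ : Subgroup H) ⊔ (Q₂ : Subgroup H)).map H.subtype ≤
      (P₁ : Subgroup G) ⊔ (P₂ : Subgroup G) := by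
    rw [Subgroup.map_sup]
    exact sup_le_sup h1 h2
  refine Lib.PSolvable.IsPSolvable_of_injective p (hpairs P₁ P₂)
    ((Subgroup.inclusion hle).comp
      (((Q₁ : Subgroup H) ⊔ (Q₂ : Subgroup H)).equivMapOfInjective H.subtype
        H.subtype_injective).toMonoidHom) ?_
  exact (Subgroup.inclusion_injective hle).comp (MulEquiv.injective _)

/-- The pair condition passes to quotients. -/
theorem pairs_quotient {G : Type u} [Group G] [Finite G]
    (hpairs : ∀ P₁ P₂ : Sylow p G, IsPSolvable p ↥((P₁ : Subgroup G) ⊔ (P₂ : Subgroup G)))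
    (N : Subgroup G) [N.Normal] :
    ∀ Q₁ Q₂ : Sylow p (G ⧸ N),
      IsPSolvable p ↥((Q₁ : Subgroup (G ⧸ N)) ⊔ (Q₂ : Subgroup (G ⧸ N))) := by
  have hs : Function.Surjective (QuotientGroup.mk' N) := QuotientGroup.mk'_surjective N
  intro Q₁ Q₂
  obtain ⟨P₁, rfl⟩ := Sylow.mapSurjective_surjective hs p Q₁
  obtain ⟨P₂, rfl⟩ := Sylow.mapSurjective_surjective hs p Q₂
  have h1 : ((P₁.mapSurjective hs : Sylow p (G ⧸ N)) : Subgroup (G ⧸ N)) ⊔
      ((P₂.mapSurjective hs : Sylow p (G ⧸ N)) : Subgroup (G ⧸ N)) =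
      ((P₁ : Subgroup G) ⊔ (P₂ : Subgroup G)).map (QuotientGroup.mk' N) := by
    rw [Subgroup.map_sup]
    rfl
  rw [h1]
  exact Lib.PSolvable.IsPSolvable_of_surjective p (hpairs P₁ P₂)
    ((QuotientGroup.mk' N).subgroupMap ((P₁ : Subgroup G) ⊔ (P₂ : Subgroup G)))
    ((QuotientGroup.mk' N).subgroupMap_surjective _)

theorem main_aux (n : ℕ) : ∀ (G : Type u) [Group G] [Finite G], Nat.card G = n →
    (∀ P₁ P₂ : Sylow p G, IsPSolvable p ↥((P₁ : Subgroup G) ⊔ (P₂ : Subgroup G))) →
    IsPSolvable p G := by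
  induction n using Nat.strong_induction_on with
  | _ n ih =>
  intro G _ _ hn hpairs
  have hp : p.Prime := Fact.out
  have hsub : ∀ H : Subgroup G, H ≠ ⊤ → IsPSolvable p H := by
    intro H hH
    refine ih (Nat.card H) ?_ H rfl (pairs_subgroup hpairs H)
    rw [← hn]
    exact lt_of_le_of_ne (Subgroup.card_le_card_group H) fun h => hH ((Subgroup.card_eq_iff_eq_top H).1 h)
  by_cases hsolv : Group.IsSolvable G
  · exact Lib.PSolvable.IsPSolvable_of_solvable p
  have hnt : Nontrivial G := by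
    by_contra hcon
    rw [not_nontrivial_iff_subsingleton] at hcon
    exact hsolv inferInstance
  by_cases hnorm : ∃ N : Subgroup G, N.Normal ∧ N ≠ ⊥ ∧ N ≠ ⊤
  · obtain ⟨N, hN, hNb, hNt⟩ := hnorm
    refine Lib.PSolvable.IsPSolvable_of_extension p N (hsub N hNt) ?_
    refine ih (Nat.card (G ⧸ N)) ?_ (G ⧸ N) rfl (pairs_quotient hpairs N)
    rw [← hn, Subgroup.card_eq_card_quotient_mul_card_subgroup N]
    have h1 : 1 < Nat.card N := (Subgroup.one_lt_card_iff_ne_bot N).2 hNb
    have h2 : 0 < Nat.card (G ⧸ N) := Nat.card_pos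
    exact lt_mul_of_one_lt_right h2 h1
  · push Not at hnorm
    have hsimple : IsSimpleGroup G := ⟨fun N hN => by
      by_cases h : N = ⊥
      · exact Or.inl h
      · exact Or.inr (hnorm N hN h)⟩
    by_cases hdvd : p ∣ Nat.card G
    · exfalso
      refine false_of_simple (fun hab => hsolv ?_) hdvd hsub hpairs
      exact Group.isSolvable_of_comm hab
    · refine Lib.PSolvable.IsPSolvable_of_quotient p (⊤ : Subgroup G) (Or.inr ?_) ?_
      · rw [Subgroup.card_top]
        exact ((Nat.Prime.coprime_iff_not_dvd hp).2 hdvd).symm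
      · have : Subsingleton (G ⧸ (⊤ : Subgroup G)) := QuotientGroup.subsingleton_quotient_top
        have : Group.IsSolvable (G ⧸ (⊤ : Subgroup G)) := inferInstance
        exact Lib.PSolvable.IsPSolvable_of_solvable p

/-- **Main theorem.** -/
theorem isPSolvable_of_pairs {G : Type u} [Group G] [Finite G]
    (hpairs : ∀ P₁ P₂ : Sylow p G, IsPSolvable p ↥((P₁ : Subgroup G) ⊔ (P₂ : Subgroup G))) :
    IsPSolvable p G :=
  main_aux (Nat.card G) G rfl hpairs

end Main

end Cfsg.Agent.H267.TwoSylow
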